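import Mathlib.Algebra.Ring.GeomSum
import Mathlib.Algebra.Ring.Parity
import Mathlib.RingTheory.Int.Basic
import Mathlib.Tactic.LinearCombination
import Mathlib.Tactic.Ring
import Mathlib.Tactic.Positivity

/-! Arithmetic of `(1 - (-q)^k) / (q + 1)`. -/

set_option autoImplicit false

namespace CfsgLib.Unitary

/-- `H q k = (1 - (-q)^k)/(q+1)`. -/
def uH (q k : ℕ) : ℤ := ∑ i ∈ Finset.range k, (-(q : ℤ)) ^ i

/-- Its absolute value: the order of a torus element of `SU_k(q)`. -/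
def uN (q k : ℕ) : ℕ := (uH q k).natAbs

/-- The exponent of that torus in the projective group. -/
def uM (q k : ℕ) : ℕ := uN q k / Nat.gcd k (q + 1)

theorem uH_mul_self (q k : ℕ) : ((q : ℤ) + 1) * uH q k = 1 - (-(q : ℤ)) ^ k := by
  rw [uH, ← mul_neg_geom_sum]; ring

theorem q_add_one_ne_zero (q : ℕ) : ((q : ℤ) + 1) ≠ 0 := by positivity

theorem uH_mul (q d m : ℕ) : uH q (d * m) = uH q d * ∑ j ∈ Finset.range m, ((-(q : ℤ)) ^ d) ^ j := by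
  apply mul_left_cancel₀ (q_add_one_ne_zero q)
  rw [← mul_assoc, uH_mul_self, uH_mul_self, pow_mul, mul_neg_geom_sum]

theorem dvd_geom_sub (q d m : ℕ) : ((q : ℤ) + 1) ∣ (∑ j ∈ Finset.range m, ((-(q : ℤ)) ^ d) ^ j) - m := by
  have h : (∑ j ∈ Finset.range m, ((-(q : ℤ)) ^ d) ^ j) - m =
      ∑ j ∈ Finset.range m, (((-(q : ℤ)) ^ d) ^ j - 1) := by
    simp [Finset.sum_sub_distrib]
  rw [h]
  refine Finset.dvd_sum fun j _ => ?_
  rw [← pow_mul]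
  refine Dvd.dvd.trans ?_ (sub_one_dvd_pow_sub_one (-(q : ℤ)) (d * j))
  exact ⟨-1, by ring⟩

theorem uH_sub (q k : ℕ) : ((q : ℤ) + 1) ∣ uH q k - k := by
  simpa [uH] using dvd_geom_sub q 1 k

theorem uH_two_mul (q d : ℕ) : uH q (2 * d) = (1 - (q : ℤ)) * ∑ i ∈ Finset.range d, ((q : ℤ) ^ 2) ^ i := by
  rw [uH_mul, neg_sq, show uH q 2 = 1 - (q : ℤ) by simp [uH, Finset.sum_range_succ]; ring]

theorem geom_sq_eq (q : ℕ) (hq : 2 ≤ q) {d : ℕ} (hd : Odd d) :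
    ∑ i ∈ Finset.range d, ((q : ℤ) ^ 2) ^ i = uH q d * ∑ i ∈ Finset.range d, (q : ℤ) ^ i := by
  have h1 := mul_neg_geom_sum ((q : ℤ) ^ 2) d
  have h2 := mul_neg_geom_sum (q : ℤ) d
  have h3 := uH_mul_self q d
  rw [hd.neg_pow] at h3
  have hne : (1 - (q : ℤ) ^ 2) ≠ 0 := by
    have : (2 : ℤ) ≤ q := by exact_mod_cast hq
    have : (q : ℤ) * 2 ≤ (q : ℤ) * q := mul_le_mul_of_nonneg_left this (by positivity)
    rw [sq]; omega
  apply mul_left_cancel₀ hne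
  rw [h1, show (1 - (q : ℤ) ^ 2) * (uH q d * ∑ i ∈ Finset.range d, (q : ℤ) ^ i) =
    (((q : ℤ) + 1) * uH q d) * ((1 - (q : ℤ)) * ∑ i ∈ Finset.range d, (q : ℤ) ^ i) by ring, h2, h3, ← pow_mul,
    mul_comm 2 d, pow_mul, sq]
  ring

theorem dvd_geom_sub_one (q : ℕ) {d : ℕ} (hd : Odd d) :
    ((q : ℤ) + 1) ∣ (∑ i ∈ Finset.range d, (q : ℤ) ^ i) - 1 := by
  obtain ⟨k, rfl⟩ := hd
  induction k with
  | zero => simp
  | succ k ih =>
    rw [show 2 * (k + 1) + 1 = 2 * k + 1 + 1 + 1 by ring, Finset.sum_range_succ, Finset.sum_range_succ]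
    have : ((q : ℤ) + 1) ∣ (q : ℤ) ^ (2 * k + 1) + (q : ℤ) ^ (2 * k + 1 + 1) := ⟨(q : ℤ) ^ (2 * k + 1), by ring⟩
    have h := dvd_add ih this
    obtain ⟨c, hc⟩ := h
    exact ⟨c, by linear_combination hc⟩

theorem uN_mul (q k : ℕ) (hq : 1 ≤ q) :
    (q + 1) * uN q k = if Odd k then q ^ k + 1 else q ^ k - 1 := by
  have h := congrArg Int.natAbs (uH_mul_self q k)
  rw [Int.natAbs_mul] at h
  have e : ((q : ℤ) + 1).natAbs = q + 1 := by omega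
  rw [e] at h
  rw [uN, h]
  have hpos : 1 ≤ q ^ k := Nat.one_le_pow _ _ hq
  split_ifs with hk
  · rw [hk.neg_pow, sub_neg_eq_add]
    have : ((1 : ℤ) + (q : ℤ) ^ k) = ((q ^ k + 1 : ℕ) : ℤ) := by push_cast; ring
    rw [this, Int.natAbs_natCast]
  · rw [(Nat.not_odd_iff_even.mp hk).neg_pow]
    have : ((1 : ℤ) - (q : ℤ) ^ k) = -((q ^ k - 1 : ℕ) : ℤ) := by
      push_cast [Nat.cast_sub hpos]; ring
    rw [this, Int.natAbs_neg, Int.natAbs_natCast]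

theorem gcd_dvd_uN (q k : ℕ) : Nat.gcd k (q + 1) ∣ uN q k := by
  have h1 : ((Nat.gcd k (q + 1) : ℕ) : ℤ) ∣ (q : ℤ) + 1 := by
    exact_mod_cast Int.natCast_dvd_natCast.mpr (Nat.gcd_dvd_right k (q + 1))
  have h2 : ((Nat.gcd k (q + 1) : ℕ) : ℤ) ∣ (k : ℤ) := Int.natCast_dvd_natCast.mpr (Nat.gcd_dvd_left k (q + 1))
  have h3 := dvd_add (h1.trans (uH_sub q k)) h2
  rw [sub_add_cancel] at h3
  exact Int.natCast_dvd.mp h3

theorem uN_pos (q k : ℕ) (hq : 2 ≤ q) (hk : 1 ≤ k) : 0 < uN q k := by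
  have h := uN_mul q k (by omega)
  have : q ≤ q ^ k := Nat.le_self_pow (by omega) q
  by_contra h0
  rw [show uN q k = 0 by omega, mul_zero] at h
  split_ifs at h <;> omega

theorem uM_mul (q k : ℕ) : Nat.gcd k (q + 1) * uM q k = uN q k := Nat.mul_div_cancel' (gcd_dvd_uN q k)

theorem uN_coprime (q k p : ℕ) (hp : p.Prime) (hpq : p ∣ q) (hk : 1 ≤ k) : Nat.Coprime (uN q k) p := by
  rw [Nat.coprime_comm, hp.coprime_iff_not_dvd]
  intro h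
  obtain ⟨j, rfl⟩ : ∃ j, k = j + 1 := ⟨k - 1, by omega⟩
  have h1 : (p : ℤ) ∣ uH q (j + 1) := Int.natCast_dvd.mpr h
  rw [uH, Finset.sum_range_succ', pow_zero] at h1
  have h2 : (p : ℤ) ∣ ∑ i ∈ Finset.range j, (-(q : ℤ)) ^ (i + 1) :=
    Finset.dvd_sum fun i _ => dvd_pow ((dvd_neg).mpr (Int.natCast_dvd_natCast.mpr hpq)) (by omega)
  have h3 : (p : ℤ) ∣ 1 := (dvd_add_right h2).mp h1
  exact hp.not_dvd_one (Int.natCast_dvd_natCast.mp (by exact_mod_cast h3))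

theorem uM_coprime (q k p : ℕ) (hp : p.Prime) (hpq : p ∣ q) (hk : 1 ≤ k) : Nat.Coprime (uM q k) p :=
  Nat.Coprime.coprime_dvd_left ⟨Nat.gcd k (q + 1), by rw [mul_comm]; exact (uM_mul q k).symm⟩ (uN_coprime q k p hp hpq hk)

theorem gcd_uN (q k : ℕ) : Nat.gcd (uN q k) (q + 1) = Nat.gcd k (q + 1) := by
  refine Nat.dvd_antisymm (Nat.dvd_gcd ?_ (Nat.gcd_dvd_right _ _)) (Nat.dvd_gcd (gcd_dvd_uN q k) (Nat.gcd_dvd_right _ _))
  have h1 : ((Nat.gcd (uN q k) (q + 1) : ℕ) : ℤ) ∣ (q : ℤ) + 1 := by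
    exact_mod_cast Int.natCast_dvd_natCast.mpr (Nat.gcd_dvd_right (uN q k) (q + 1))
  have h2 : ((Nat.gcd (uN q k) (q + 1) : ℕ) : ℤ) ∣ uH q k := Int.natCast_dvd.mpr (Nat.gcd_dvd_left _ _)
  have h3 := dvd_sub h2 (h1.trans (uH_sub q k))
  rw [sub_sub_cancel] at h3
  exact Int.natCast_dvd_natCast.mp h3

theorem uM_dvd_of (q k j : ℕ) (h : uN q k ∣ j * (q + 1)) : uM q k ∣ j := by
  have hg : 0 < Nat.gcd k (q + 1) := Nat.gcd_pos_of_pos_right _ (by omega)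
  have hcop : Nat.Coprime (uM q k) ((q + 1) / Nat.gcd k (q + 1)) := by
    have hpos : 0 < Nat.gcd (uN q k) (q + 1) := Nat.gcd_pos_of_pos_right _ (by omega)
    have := Nat.coprime_div_gcd_div_gcd hpos
    rwa [gcd_uN] at this
  refine hcop.dvd_of_dvd_mul_right ?_
  refine Nat.dvd_of_mul_dvd_mul_left hg ?_
  rw [uM_mul, ← mul_assoc, mul_comm _ j, mul_assoc, Nat.mul_div_cancel' (Nat.gcd_dvd_right k (q + 1))]
  exact h

end CfsgLib.Unitary
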