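import Cfsg.Agent.Unitary.Basic
import Cfsg.Agent.Unitary.Arith
import Cfsg.Agent.GLOrders.Basic
import Mathlib.FieldTheory.Finite.Trace
import Mathlib.RingTheory.Norm.Basic

/-! Elements of prescribed order in `SU_n(q)`. -/

set_option autoImplicit false

namespace CfsgLib.Unitary

open Matrix Polynomial

variable {F : Type*} [Field F]

/-- A commutative algebra with a Hermitian form gives unitary matrices. -/
theorem exists_unitary_rep [Finite F] (σ : F →+* F) (hσ2 : ∀ x, σ (σ x) = x) (hσne : σ ≠ RingHom.id F)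
    {R : Type*} [CommRing R] [Algebra F R] {n : ℕ} (b : Module.Basis (Fin n) F R) (bar : R →+* R)
    (hbarσ : ∀ c, bar (algebraMap F R c) = algebraMap F R (σ c)) (hbar2 : ∀ y, bar (bar y) = y)
    (t : R →ₗ[F] F) (ht : ∀ y, t (bar y) = σ (t y)) (hnd : ∀ y, y ≠ 0 → ∃ r, t (r * y) ≠ 0) :
    ∃ φ : R →ₐ[F] Matrix (Fin n) (Fin n) F, Function.Injective φ ∧ (∀ u, bar u * u = 1 → IsU σ (φ u)) ∧
      ∀ u, (φ u).det = Algebra.norm F u := by
  classical
  set G : Matrix (Fin n) (Fin n) F := Matrix.of fun i j => t (bar (b i) * b j) with hG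
  have hbs : ∀ (c : F) (y : R), bar (c • y) = σ c • bar y := fun c y => by
    rw [Algebra.smul_def, map_mul, hbarσ, ← Algebra.smul_def]
  have hGh : adj σ G = G := by
    ext i j
    show σ (t (bar (b j) * b i)) = t (bar (b i) * b j)
    rw [← ht, map_mul, hbar2, mul_comm]
  have hexp : ∀ (x y : Fin n → F), t (bar (∑ i, x i • b i) * ∑ j, y j • b j) = ∑ i, ∑ j, σ (x i) * G i j * y j := by
    intro x y
    rw [map_sum, Finset.sum_mul, map_sum]
    refine Finset.sum_congr rfl fun i _ => ?_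
    rw [Finset.mul_sum, map_sum]
    refine Finset.sum_congr rfl fun j _ => ?_
    rw [hbs, smul_mul_smul_comm, map_smul, smul_eq_mul]
    show σ (x i) * y j * t (bar (b i) * b j) = σ (x i) * t (bar (b i) * b j) * y j
    ring
  have hdet : G.det ≠ 0 := by
    intro h
    obtain ⟨v, hv0, hv⟩ := Matrix.exists_mulVec_eq_zero_iff.mpr h
    have hy : (∑ j, v j • b j) ≠ 0 := fun hy => hv0 (funext (Fintype.linearIndependent_iff.mp b.linearIndependent v hy))
    obtain ⟨r, hr⟩ := hnd _ hy
    apply hr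
    have hbr : r = bar (∑ i, b.repr (bar r) i • b i) := by rw [b.sum_repr, hbar2]
    rw [hbr, hexp]
    refine Finset.sum_eq_zero fun i _ => ?_
    simp only [mul_assoc, ← Finset.mul_sum]
    rw [show ∑ j, G i j * v j = (G *ᵥ v) i from rfl, hv, Pi.zero_apply, mul_zero]
  obtain ⟨P, hP⟩ := exists_congr σ hσ2 hσne n G hGh hdet
  have hPd : IsUnit P.det := by
    refine isUnit_iff_ne_zero.mpr fun h => hdet ?_
    rw [← hP, Matrix.det_mul, h, mul_zero]
  have hP1 : P * P⁻¹ = 1 := Matrix.mul_nonsing_inv _ hPd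
  have hP2 : P⁻¹ * P = 1 := Matrix.nonsing_inv_mul _ hPd
  have hL : ∀ u, bar u * u = 1 → adj σ (Algebra.leftMulMatrix b u) * G * Algebra.leftMulMatrix b u = G := by
    intro u hu
    ext i j
    have hcol : ∀ k, u * b k = ∑ l, Algebra.leftMulMatrix b u l k • b l := fun k => by
      simp only [Algebra.leftMulMatrix_eq_repr_mul]
      exact (b.sum_repr (u * b k)).symm
    have h : t (bar (u * b i) * (u * b j)) = G i j := by
      show _ = t (bar (b i) * b j)
      congr 1
      rw [map_mul, mul_mul_mul_comm, hu, one_mul]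
    rw [← h, hcol i, hcol j, hexp, Finset.sum_comm, Matrix.mul_apply]
    refine Finset.sum_congr rfl fun l _ => ?_
    rw [Matrix.mul_apply, Finset.sum_mul]
    rfl
  let conj : Matrix (Fin n) (Fin n) F →ₐ[F] Matrix (Fin n) (Fin n) F :=
    AlgHom.ofLinearMap ((LinearMap.mulLeft F P).comp (LinearMap.mulRight F P⁻¹))
      (by show P * (1 * P⁻¹) = 1; rw [one_mul, hP1])
      (fun A B => by
        show P * (A * B * P⁻¹) = P * (A * P⁻¹) * (P * (B * P⁻¹))
        calc _ = P * (A * (P⁻¹ * P) * (B * P⁻¹)) := by rw [hP2, Matrix.mul_one, Matrix.mul_assoc]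
          _ = _ := by simp only [Matrix.mul_assoc])
  refine ⟨conj.comp (Algebra.leftMulMatrix b), fun x y hxy => Algebra.leftMulMatrix_injective b ?_, fun u hu => ?_, fun u => ?_⟩
  · have h : P * (Algebra.leftMulMatrix b x * P⁻¹) = P * (Algebra.leftMulMatrix b y * P⁻¹) := hxy
    have h1 := congrArg (fun A => P⁻¹ * A * P) h
    simpa [← Matrix.mul_assoc, hP2, Matrix.mul_assoc _ P⁻¹ P] using h1
  · show adj σ (P * (Algebra.leftMulMatrix b u * P⁻¹)) * (P * (Algebra.leftMulMatrix b u * P⁻¹)) = 1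
    set L := Algebra.leftMulMatrix b u
    calc _ = adj σ P⁻¹ * (adj σ L * (adj σ P * P) * L) * P⁻¹ := by
          rw [adj_mul, adj_mul]; simp only [Matrix.mul_assoc]
      _ = adj σ P⁻¹ * (adj σ P * P) * P⁻¹ := by rw [hP, hL u hu]
      _ = adj σ (P * P⁻¹) * (P * P⁻¹) := by rw [adj_mul]; simp only [Matrix.mul_assoc]
      _ = 1 := by rw [hP1, adj_one, Matrix.one_mul]
  · show (P * (Algebra.leftMulMatrix b u * P⁻¹)).det = _
    rw [Matrix.det_mul, Matrix.det_mul, mul_left_comm, ← Matrix.det_mul, hP1, Matrix.det_one, mul_one,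
      Algebra.norm_eq_matrix_det b]

theorem exists_prime_pow [Fintype F] (q : ℕ) (hF : Fintype.card F = q ^ 2) :
    ∃ p e, p.Prime ∧ CharP F p ∧ q = p ^ e ∧ 0 < e := by
  obtain ⟨p, hp⟩ := CharP.exists F
  have : Fact p.Prime := ⟨CharP.char_is_prime F p⟩
  obtain ⟨j, hp', hj⟩ := FiniteField.card F p
  obtain ⟨i, -, hqi⟩ := (Nat.dvd_prime_pow hp').mp (show q ∣ p ^ (j : ℕ) by rw [← hj, hF]; exact dvd_pow_self q two_ne_zero)
  refine ⟨p, i, hp', hp, hqi, Nat.pos_of_ne_zero fun h => ?_⟩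
  rw [h, pow_zero] at hqi
  have := (Fintype.one_lt_card (α := F))
  rw [hF, hqi, one_pow] at this
  omega

/-- The torus element of odd degree. -/
theorem exists_singer_odd [Fintype F] (q : ℕ) (hF : Fintype.card F = q ^ 2) {n : ℕ} (hn : Odd n) (σ : F →+* F)
    (hσ : ∀ x, σ x = x ^ q) (hσ2 : ∀ x, σ (σ x) = x) (hσne : σ ≠ RingHom.id F) :
    ∃ S : Matrix (Fin n) (Fin n) F, IsU σ S ∧ S.det = 1 ∧
      ∀ (k : ℕ) (c : F), S ^ k = c • (1 : Matrix (Fin n) (Fin n) F) → uM q n ∣ k := by
  classical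
  obtain ⟨p, e, hp, hchar, hqe, he⟩ := exists_prime_pow q hF
  have : Fact p.Prime := ⟨hp⟩
  have hq2 : 2 ≤ q := hqe ▸ le_trans hp.two_le (Nat.le_self_pow (by omega) p)
  have : NeZero n := ⟨by obtain ⟨j, rfl⟩ := hn; omega⟩
  let K := FiniteField.Extension F p n
  have : Fintype K := Fintype.ofFinite K
  have : CharP K p := charP_of_injective_algebraMap (algebraMap F K).injective p
  have hQ : Nat.card F = q ^ 2 := by rw [Nat.card_eq_fintype_card, hF]
  have hK : Nat.card K = q ^ n * q ^ n := by rw [FiniteField.natCard_extension, hQ, ← pow_mul, ← pow_add]; ring_nf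
  let bar : K →+* K := iterateFrobenius K p (e * n)
  have hbar : ∀ y : K, bar y = y ^ q ^ n := fun y => by
    show iterateFrobenius K p (e * n) y = _
    rw [iterateFrobenius_def, hqe, ← pow_mul]
  obtain ⟨j, hj⟩ := hn
  have hfix : ∀ c : F, c ^ q ^ n = σ c := by
    intro c
    rw [hσ, hj, pow_succ, pow_mul, pow_mul, ← hF, FiniteField.pow_card_pow]
  have hbarσ : ∀ c : F, bar (algebraMap F K c) = algebraMap F K (σ c) := fun c => by rw [hbar, ← map_pow, hfix]
  have hbar2 : ∀ y, bar (bar y) = y := fun y => by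
    rw [hbar, hbar, ← pow_mul, ← hK, Nat.card_eq_fintype_card, FiniteField.pow_card]
  have ht : ∀ y, Algebra.trace F K (bar y) = σ (Algebra.trace F K y) := by
    intro y
    apply (algebraMap F K).injective
    rw [← hbarσ, FiniteField.algebraMap_trace_eq_sum_pow, FiniteField.algebraMap_trace_eq_sum_pow, map_sum]
    exact Finset.sum_congr rfl fun i _ => (map_pow bar y _).symm
  have hnd : ∀ y : K, y ≠ 0 → ∃ r, Algebra.trace F K (r * y) ≠ 0 := by
    intro y hy
    obtain ⟨x, hx⟩ := Algebra.trace_surjective F K 1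
    exact ⟨x * y⁻¹, by rw [mul_assoc, inv_mul_cancel₀ hy, mul_one, hx]; exact one_ne_zero⟩
  let b := (Module.finBasis F K).reindex (finCongr (FiniteField.finrank_extension F p n))
  obtain ⟨φ, hinj, hU, hdetφ⟩ := exists_unitary_rep σ hσ2 hσne b bar hbarσ hbar2 (Algebra.trace F K) ht hnd
  have hN : (q + 1) * uN q n = q ^ n + 1 := by rw [uN_mul q n (by omega), if_pos ⟨j, hj⟩]
  have hpow1 : 1 ≤ q ^ n := Nat.one_le_pow _ _ (by omega)
  have hN0 : 0 < uN q n := uN_pos q n hq2 (by omega)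
  obtain ⟨w, hw⟩ := IsCyclic.exists_generator (α := Kˣ)
  have hwo : orderOf w = (q ^ n + 1) * (q ^ n - 1) := by
    rw [orderOf_eq_card_of_forall_mem_zpowers hw, Nat.card_units, hK, Nat.add_mul, one_mul, Nat.mul_sub, mul_one]
    have : q ^ n ≤ q ^ n * q ^ n := Nat.le_mul_of_pos_right _ hpow1
    omega
  set z : Kˣ := w ^ ((q + 1) * (q ^ n - 1)) with hz
  have hzo : orderOf z = uN q n := by
    have h2 : 2 ≤ q ^ n := le_trans hq2 (Nat.le_self_pow (by omega) q)
    rw [hz, orderOf_pow_of_dvd (Nat.mul_ne_zero (by omega) (by omega)) ⟨uN q n, by rw [hwo, ← hN]; ring⟩, hwo, ← hN,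
      mul_assoc, mul_comm (uN q n), ← mul_assoc,
      Nat.mul_div_cancel_left _ (Nat.mul_pos (by omega) (by omega))]
  have hzq : (z : K) ^ (q ^ n + 1) = 1 := by
    rw [← Units.val_pow_eq_pow_val, ← hN, mul_comm, pow_mul, ← hzo, pow_orderOf_eq_one, one_pow, Units.val_one]
  refine ⟨φ z, hU z ?_, ?_, fun k c hk => ?_⟩
  · rw [hbar, ← pow_succ, hzq]
  · rw [hdetφ]
    apply (algebraMap F K).injective
    rw [FiniteField.algebraMap_norm_eq_pow_sum, FiniteField.finrank_extension, map_one, hQ, hz,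
      ← Units.val_pow_eq_pow_val, ← pow_mul]
    have key : (q + 1) * (q ^ n - 1) * (∑ i ∈ Finset.range n, (q ^ 2) ^ i) =
        orderOf w * ∑ i ∈ Finset.range n, q ^ i := by
      have h1 := geom_sq_eq q hq2 ⟨j, hj⟩
      have h2 := uH_mul_self q n
      rw [(show Odd n from ⟨j, hj⟩).neg_pow] at h2
      rw [hwo]
      zify [hpow1]
      rw [h1]
      linear_combination ((q : ℤ) ^ n - 1) * (∑ i ∈ Finset.range n, (q : ℤ) ^ i) * h2
    rw [key, pow_mul, pow_orderOf_eq_one, one_pow, Units.val_one]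
  · refine uM_dvd_of q n k ?_
    rw [← hzo]
    refine orderOf_dvd_of_pow_eq_one (Units.ext ?_)
    have hzk : (z : K) ^ k = algebraMap F K c := hinj (by rw [map_pow, hk, AlgHom.commutes, Algebra.algebraMap_eq_smul_one])
    rw [Units.val_pow_eq_pow_val, Units.val_one, pow_mul, hzk, ← map_pow]
    have h1 : algebraMap F K (c ^ (q ^ n + 1)) = 1 := by
      rw [map_pow, ← hzk, ← pow_mul, mul_comm, pow_mul, hzq, one_pow]
    rw [pow_succ, hfix, hσ, ← pow_succ] at h1
    exact h1

/-- The torus element of even degree. -/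
theorem exists_singer_even [Fintype F] (q : ℕ) (hF : Fintype.card F = q ^ 2) {n : ℕ} (hn : Even n) (hn0 : 0 < n)
    (σ : F →+* F) (hσ : ∀ x, σ x = x ^ q) (hσ2 : ∀ x, σ (σ x) = x) (hσne : σ ≠ RingHom.id F) (hq2 : 2 ≤ q) :
    ∃ S : Matrix (Fin n) (Fin n) F, IsU σ S ∧ S.det = 1 ∧
      ∀ (k : ℕ) (c : F), S ^ k = c • (1 : Matrix (Fin n) (Fin n) F) → uM q n ∣ k := by
  classical
  obtain ⟨t, ht⟩ := hn
  have hQ : Nat.card F = q ^ 2 := by rw [Nat.card_eq_fintype_card, hF]
  obtain ⟨g, hg⟩ := CfsgLib.GLOrders.exists_singer (F := F) t (by omega)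
  have hN : (q + 1) * uN q n = q ^ n - 1 := by
    rw [uN_mul q n (by omega), if_neg (by rw [Nat.not_odd_iff_even]; exact ⟨t, ht⟩)]
  have hg' : orderOf g = (q + 1) * uN q n := by rw [hg, hQ, hN, ← pow_mul, ht, two_mul]
  set A := g ^ (q + 1) with hA
  have hAo : orderOf A = uN q n := by
    rw [hA, orderOf_pow_of_dvd (by omega) (hg' ▸ dvd_mul_right _ _), hg', Nat.mul_div_cancel_left _ (by omega)]
  set a : Matrix (Fin t) (Fin t) F := (A : Matrix (Fin t) (Fin t) F) with ha
  set a' : Matrix (Fin t) (Fin t) F := adj σ ((A⁻¹ : GL (Fin t) F) : Matrix (Fin t) (Fin t) F) with ha'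
  have hva : adj σ a * a' = 1 := by rw [ha', ← adj_mul, ha, ← Units.val_mul, inv_mul_cancel, Units.val_one, adj_one]
  have hav : a' * adj σ a = 1 := by rw [ha', ← adj_mul, ha, ← Units.val_mul, mul_inv_cancel, Units.val_one, adj_one]
  have ha'a : adj σ a' * a = 1 := by
    rw [ha', adj_adj σ hσ2, ha, ← Units.val_mul, inv_mul_cancel, Units.val_one]
  let e : Fin t ⊕ Fin t ≃ Fin n := finSumFinEquiv.trans (finCongr ht.symm)
  let J : Matrix (Fin t ⊕ Fin t) (Fin t ⊕ Fin t) F := fromBlocks 0 1 1 0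
  set G := Matrix.reindex e e J with hG
  have hGh : adj σ G = G := by
    have h0 : adj σ (0 : Matrix (Fin t) (Fin t) F) = 0 := by ext i j; simp [adj]
    rw [hG, adj_reindex]
    simp only [J, adj_fromBlocks, adj_one, h0]
  have hGd : G.det ≠ 0 := by
    have h : J * J = 1 := by simp [J, fromBlocks_multiply]
    rw [hG, Matrix.det_reindex_self]
    intro h0
    have := congrArg Matrix.det h
    rw [Matrix.det_mul, h0, mul_zero, Matrix.det_one] at this
    exact zero_ne_one this
  obtain ⟨P, hP⟩ := exists_congr σ hσ2 hσne n G hGh hGd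
  have hPd : IsUnit P.det := by
    refine isUnit_iff_ne_zero.mpr fun h => hGd ?_
    rw [← hP, Matrix.det_mul, h, mul_zero]
  have hP1 : P * P⁻¹ = 1 := Matrix.mul_nonsing_inv _ hPd
  have hP2 : P⁻¹ * P = 1 := Matrix.nonsing_inv_mul _ hPd
  set D := Matrix.reindex e e (fromBlocks a 0 0 a') with hD
  have hDG : adj σ D * G * D = G := by
    have h0 : adj σ (0 : Matrix (Fin t) (Fin t) F) = 0 := by ext i j; simp [adj]
    rw [hD, hG, adj_reindex, adj_fromBlocks, h0]
    simp only [J, Matrix.reindex_apply, Matrix.submatrix_mul_equiv, fromBlocks_multiply]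
    simp [hva, ha'a]
  have hdetD : D.det = 1 := by
    rw [hD, Matrix.det_reindex_self, Matrix.det_fromBlocks_zero₂₁, ha', adj, Matrix.det_transpose,
      ← RingHom.mapMatrix_apply, ← RingHom.map_det, ha]
    set d := ((g : GL (Fin t) F) : Matrix (Fin t) (Fin t) F).det with hd
    have hd0 : d ≠ 0 := ((Matrix.isUnit_iff_isUnit_det _).mp g.isUnit).ne_zero
    have hAd : (A : Matrix (Fin t) (Fin t) F).det = d ^ (q + 1) := by
      rw [hA, Units.val_pow_eq_pow_val, Matrix.det_pow]
    have hAid : ((A⁻¹ : GL (Fin t) F) : Matrix (Fin t) (Fin t) F).det = (d ^ (q + 1))⁻¹ := by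
      rw [Matrix.coe_units_inv, Matrix.det_nonsing_inv, hAd, Ring.inverse_eq_inv']
    have hfix : σ (d ^ (q + 1)) = d ^ (q + 1) := by
      rw [pow_succ, ← hσ, map_mul, hσ2, mul_comm]
    rw [hAd, hAid, map_inv₀, hfix, mul_inv_cancel₀ (pow_ne_zero _ hd0)]
  refine ⟨P * D * P⁻¹, ?_, ?_, fun k c hk => ?_⟩
  · show adj σ (P * D * P⁻¹) * (P * D * P⁻¹) = 1
    calc _ = adj σ P⁻¹ * (adj σ D * (adj σ P * P) * D) * P⁻¹ := by rw [adj_mul, adj_mul]; simp only [Matrix.mul_assoc]
      _ = adj σ P⁻¹ * (adj σ P * P) * P⁻¹ := by rw [hP, hDG]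
      _ = adj σ (P * P⁻¹) * (P * P⁻¹) := by rw [adj_mul]; simp only [Matrix.mul_assoc]
      _ = 1 := by rw [hP1, adj_one, Matrix.one_mul]
  · rw [Matrix.det_mul, Matrix.det_mul, hdetD, mul_one, ← Matrix.det_mul, hP1, Matrix.det_one]
  · have hconj : ∀ i, (P * D * P⁻¹) ^ i = P * D ^ i * P⁻¹ := by
      intro i
      induction i with
      | zero => rw [pow_zero, pow_zero, Matrix.mul_one, hP1]
      | succ i ih =>
        rw [pow_succ, ih, pow_succ]
        calc _ = P * D ^ i * (P⁻¹ * P) * D * P⁻¹ := by simp only [Matrix.mul_assoc]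
          _ = _ := by rw [hP2, Matrix.mul_one]; simp only [Matrix.mul_assoc]
    rw [hconj] at hk
    have hDk : D ^ k = c • (1 : Matrix (Fin n) (Fin n) F) := by
      have h := congrArg (fun M => P⁻¹ * M * P) hk
      simp only [Matrix.mul_smul, Matrix.smul_mul, Matrix.mul_one, hP2] at h
      rw [← h]
      calc _ = (P⁻¹ * P) * D ^ k * (P⁻¹ * P) := by rw [hP2, Matrix.one_mul, Matrix.mul_one]
        _ = _ := by simp only [Matrix.mul_assoc]
    have hblk : (fromBlocks a 0 0 a') ^ k = c • (1 : Matrix (Fin t ⊕ Fin t) (Fin t ⊕ Fin t) F) := by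
      have h := congrArg (Matrix.reindexAlgEquiv F F e).symm hDk
      rw [map_pow, map_smul, map_one, hD] at h
      simpa [Matrix.reindexAlgEquiv_apply, Matrix.reindexAlgEquiv] using h
    rw [Matrix.fromBlocks_diagonal_pow, ← fromBlocks_one, fromBlocks_smul, fromBlocks_inj] at hblk
    obtain ⟨h1, -, -, h2⟩ := hblk
    have hadjpow : ∀ i, adj σ (a ^ i) * a' ^ i = 1 := by
      intro i
      induction i with
      | zero => simp [adj_one]
      | succ i ih =>
        rw [pow_succ a, adj_mul, pow_succ a']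
        calc _ = adj σ a * (adj σ (a ^ i) * a' ^ i) * a' := by simp only [Matrix.mul_assoc]
          _ = 1 := by rw [ih, Matrix.mul_one, hva]
    have h3 := hadjpow k
    rw [h1, h2, adj_smul, adj_one, smul_mul_smul_comm, Matrix.one_mul] at h3
    have ht0 : Nonempty (Fin t) := ⟨⟨0, by omega⟩⟩
    have h4 : σ c * c = 1 := by
      have := congrFun (congrFun h3 (Classical.arbitrary _)) (Classical.arbitrary _)
      simpa using this
    refine uM_dvd_of q n k ?_
    rw [← hAo]
    refine orderOf_dvd_of_pow_eq_one (Units.ext ?_)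
    rw [Units.val_pow_eq_pow_val, Units.val_one, pow_mul, ← ha, h1, _root_.smul_pow, one_pow, pow_succ, ← hσ, h4, one_smul]

/-- A regular unipotent unitary matrix. -/
theorem exists_unipotent_unitary [Finite F] (p : ℕ) [Fact p.Prime] [CharP F p] (σ : F →+* F) (hσ2 : ∀ x, σ (σ x) = x)
    (hσne : σ ≠ RingHom.id F) (n : ℕ) (hn : 1 ≤ n) :
    ∃ U : Matrix (Fin n) (Fin n) F, IsU σ U ∧ U.det = 1 ∧ orderOf U = p ^ Nat.clog p n := by
  classical
  have hp : p.Prime := Fact.out
  set h : F[X] := (X - 1) ^ n with hh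
  have hX1 : (X - 1 : F[X]).Monic := by simpa using monic_X_sub_C (1 : F)
  have hdeg1 : (X - 1 : F[X]).natDegree = 1 := by simpa using natDegree_X_sub_C (1 : F)
  have hm : h.Monic := hX1.pow n
  have hdeg : h.natDegree = n := by rw [hh, natDegree_pow, hdeg1, mul_one]
  let R := AdjoinRoot h
  let z : R := AdjoinRoot.root h
  have hz1 : (z - 1) ^ n = 0 := by
    have h1 : AdjoinRoot.mk h ((X - 1 : F[X]) ^ n) = 0 := AdjoinRoot.mk_eq_zero.mpr (dvd_of_eq hh)
    simpa [map_pow, z] using h1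
  have hzu : IsUnit z := by
    have := IsNilpotent.isUnit_one_add (r := z - 1) ⟨n, hz1⟩
    rwa [add_sub_cancel] at this
  set zi : R := ((hzu.unit⁻¹ : Rˣ) : R) with hzi
  have hziz : zi * z = 1 := hzu.val_inv_mul
  have hev : eval₂ ((AdjoinRoot.of h).comp σ) zi h = 0 := by
    have h1 : (zi - 1) ^ n = (-zi) ^ n * (z - 1) ^ n := by
      rw [← mul_pow]
      congr 1
      linear_combination hziz
    show eval₂ _ zi ((X - 1 : F[X]) ^ n) = 0
    simp [eval₂_pow, h1, hz1]
  let bar : R →+* R := AdjoinRoot.lift ((AdjoinRoot.of h).comp σ) zi hev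
  have hbz : bar z = zi := AdjoinRoot.lift_root hev
  have hbarσ : ∀ c, bar (algebraMap F R c) = algebraMap F R (σ c) := fun c => by
    rw [AdjoinRoot.algebraMap_eq]
    exact AdjoinRoot.lift_of hev
  have hbi : bar zi = z := by
    have h1 := congrArg bar hziz
    rw [map_mul, hbz, map_one] at h1
    calc bar zi = bar zi * (zi * z) := by rw [hziz, mul_one]
      _ = z := by rw [← mul_assoc, h1, one_mul]
  have hbar2 : ∀ y, bar (bar y) = y := by
    intro y
    induction y using AdjoinRoot.induction_on with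
    | ih f =>
      induction f using Polynomial.induction_on with
      | C c =>
        rw [AdjoinRoot.mk_C, ← AdjoinRoot.algebraMap_eq, hbarσ, hbarσ, hσ2]
      | add f g hf hg => simp only [map_add, hf, hg]
      | monomial m c ih =>
        rw [pow_succ, ← mul_assoc, map_mul, map_mul, map_mul, ih, AdjoinRoot.mk_X]
        show _ * bar (bar z) = _
        rw [hbz, hbi]
  let t0 : R →ₗ[F] F := (lcoeff F (n - 1)).comp (AdjoinRoot.modByMonicHom hm)
  set s : R := (z - 1) ^ (n - 1) with hs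
  have hzs : z * s = s := by
    have h1 : (z - 1) * s = 0 := by rw [hs, ← pow_succ', show n - 1 + 1 = n by omega, hz1]
    linear_combination h1
  have hbs : bar s = (-1) ^ (n - 1) * s := by
    have h1 : zi * s = s := by nth_rw 1 [← hzs]; rw [← mul_assoc, hziz, one_mul]
    have h2 : ∀ i, zi ^ i * s = s := by
      intro i
      induction i with
      | zero => simp
      | succ i ih => rw [pow_succ, mul_assoc, h1, ih]
    rw [hs, map_pow, map_sub, hbz, map_one]
    calc (zi - 1) ^ (n - 1) = (-1) ^ (n - 1) * (zi ^ (n - 1) * (z - 1) ^ (n - 1)) := by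
          rw [← mul_pow, ← mul_pow]; congr 1; linear_combination hziz
      _ = _ := by rw [← hs, h2]
  have ht0s : t0 s = 1 := by
    have h1 : s = AdjoinRoot.mk h ((X - 1) ^ (n - 1)) := by simp [hs, z, map_pow]
    show (AdjoinRoot.modByMonicHom hm s).coeff (n - 1) = 1
    rw [h1, AdjoinRoot.modByMonicHom_mk, (modByMonic_eq_self_iff hm).mpr]
    · have := (hX1.pow (n - 1)).coeff_natDegree
      rwa [natDegree_pow, hdeg1, mul_one] at this
    · rw [degree_eq_natDegree (hX1.pow (n - 1)).ne_zero, degree_eq_natDegree hm.ne_zero, natDegree_pow, hdeg1, mul_one, hdeg]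
      exact_mod_cast (by omega : n - 1 < n)
  obtain ⟨lam, hlam⟩ : ∃ lam : F, lam + σ lam * (-1) ^ (n - 1) ≠ 0 := by
    by_contra hc
    push Not at hc
    apply hσne
    have e1 := hc 1
    rw [map_one, one_mul] at e1
    refine RingHom.ext fun t => ?_
    have e2 := hc t
    rw [RingHom.id_apply]
    have hsq : ((-1 : F) ^ (n - 1)) * (-1) ^ (n - 1) = 1 := by rw [← mul_pow]; simp
    linear_combination ((-1 : F) ^ (n - 1)) * e2 - t * ((-1 : F) ^ (n - 1)) * e1 - (σ t - t) * hsq
  let t : R →ₗ[F] F :=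
    { toFun := fun y => lam * t0 y + σ (lam * t0 (bar y))
      map_add' := fun x y => by simp only [map_add, mul_add]; ring
      map_smul' := fun c y => by
        simp only [Algebra.smul_def c y, map_mul, hbarσ, RingHom.id_apply, smul_eq_mul]
        rw [← Algebra.smul_def, ← Algebra.smul_def, map_smul, map_smul, smul_eq_mul, smul_eq_mul, map_mul, hσ2]
        ring }
  have ht : ∀ y, t (bar y) = σ (t y) := fun y => by
    show lam * t0 (bar y) + σ (lam * t0 (bar (bar y))) = σ (lam * t0 y + σ (lam * t0 (bar y)))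
    rw [hbar2, map_add, hσ2, add_comm]
  have hts : t s = lam + σ lam * (-1) ^ (n - 1) := by
    show lam * t0 s + σ (lam * t0 (bar s)) = _
    rw [hbs, show ((-1 : R) ^ (n - 1)) * s = ((-1 : F) ^ (n - 1)) • s by simp [Algebra.smul_def], map_smul, ht0s,
      smul_eq_mul]
    simp
  have hnd : ∀ y : R, y ≠ 0 → ∃ r, t (r * y) ≠ 0 := by
    intro y hy
    obtain ⟨f, rfl⟩ := AdjoinRoot.mk_surjective y
    have hf0 : f ≠ 0 := by rintro rfl; exact hy (map_zero _)
    obtain ⟨w, hw, hw1⟩ := exists_eq_pow_rootMultiplicity_mul_and_not_dvd f hf0 1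
    set k := rootMultiplicity 1 f
    have hkn : k < n := by
      by_contra hc
      apply hy
      rw [AdjoinRoot.mk_eq_zero, hw, hh, map_one]
      exact dvd_mul_of_dvd_left (pow_dvd_pow _ (by omega)) _
    have hw0 : w.eval 1 ≠ 0 := by rwa [Ne, ← IsRoot, ← dvd_iff_isRoot]
    refine ⟨((w.eval 1)⁻¹ : F) • (z - 1) ^ (n - 1 - k), ?_⟩
    have hprod : (z - 1) ^ (n - 1 - k) * AdjoinRoot.mk h f = (w.eval 1) • s := by
      rw [hw, map_mul, map_pow, map_sub, AdjoinRoot.mk_X, AdjoinRoot.mk_C, map_one, ← mul_assoc, ← pow_add,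
        show n - 1 - k + k = n - 1 by omega, ← hs]
      obtain ⟨v, hv⟩ := X_sub_C_dvd_sub_C_eval (a := (1 : F)) (p := w)
      have h1 : AdjoinRoot.mk h w = AdjoinRoot.mk h (C (w.eval 1)) + (z - 1) * AdjoinRoot.mk h v := by
        rw [show w = C (w.eval 1) + (X - C 1) * v by rw [← hv]; ring, map_add, map_mul, map_sub, AdjoinRoot.mk_X,
          AdjoinRoot.mk_C, AdjoinRoot.mk_C, map_one]
        simp [z]
      have h2 : s * (z - 1) = 0 := by linear_combination hzs
      rw [h1, mul_add, ← mul_assoc, h2, zero_mul, add_zero, AdjoinRoot.mk_C, Algebra.smul_def, AdjoinRoot.algebraMap_eq, mul_comm]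
    rw [smul_mul_assoc, hprod, smul_smul, inv_mul_cancel₀ hw0, one_smul, hts]
    exact hlam
  let pb := AdjoinRoot.powerBasis hm.ne_zero
  let b := pb.basis.reindex (finCongr (show pb.dim = n from hdeg))
  obtain ⟨φ, hinj, hU, -⟩ := exists_unitary_rep σ hσ2 hσne b bar hbarσ hbar2 t ht hnd
  set c := Nat.clog p n with hc
  have hle : n ≤ p ^ c := Nat.le_pow_clog hp.one_lt _
  have hcharR : CharP R p := by
    have : Nontrivial R := AdjoinRoot.nontrivial h (by rw [degree_eq_natDegree hm.ne_zero, hdeg]; exact_mod_cast (by omega : n ≠ 0))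
    exact charP_of_injective_algebraMap (algebraMap F R).injective p
  have hpowj : ∀ j, z ^ p ^ j = 1 ↔ (z - 1) ^ p ^ j = 0 := fun j => by rw [sub_pow_char_pow, one_pow, sub_eq_zero]
  have hUo : orderOf (φ z) = p ^ c := by
    refine (orderOf_injective φ.toRingHom.toMonoidHom hinj z).trans ?_
    have hne : s ≠ 0 := fun h0 => by rw [h0, map_zero] at ht0s; exact zero_ne_one ht0s
    cases hcc : c with
    | zero =>
      rw [pow_zero, orderOf_eq_one_iff]
      rw [hcc, pow_zero] at hle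
      have hn1 : n = 1 := by omega
      rw [hn1, pow_one, sub_eq_zero] at hz1
      exact hz1
    | succ d =>
      refine orderOf_eq_prime_pow ?_ ((hpowj _).mpr (pow_eq_zero_of_le (by rw [hcc] at hle; omega) hz1))
      rw [hpowj]
      intro h0
      have hlt : p ^ d < n := by
        by_contra hc'
        have := Nat.clog_le_of_le_pow (b := p) (x := n) (y := d) (by omega)
        omega
      exact hne (pow_eq_zero_of_le (by omega) h0)
  refine ⟨φ z, hU z (by rw [hbz, hziz]), ?_, hUo⟩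
  have h1 : (φ z).det ^ p ^ c = 1 := by rw [← Matrix.det_pow, ← hUo, pow_orderOf_eq_one, Matrix.det_one]
  have h2 : ((φ z).det - 1) ^ p ^ c = 0 := by rw [sub_pow_char_pow, h1, one_pow, sub_self]
  exact sub_eq_zero.mp (eq_zero_of_pow_eq_zero h2)

end CfsgLib.Unitary
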