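import Cfsg.Agent.Unitary.Basic
import Cfsg.Agent.Unitary.Arith
import Cfsg.Agent.Symp.SelfReciprocal
import Cfsg.Agent.GLOrders.CharpolyExponent
import Mathlib.RingTheory.RootsOfUnity.PrimitiveRoots

/-! Factors of characteristic polynomials of unitary matrices. -/

set_option autoImplicit false

namespace CfsgLib.Unitary

open Polynomial UniqueFactorizationMonoid

variable {F : Type*} [Field F]

/-- The conjugate reciprocal of a polynomial. -/
noncomputable def ust (σ : F →+* F) (f : F[X]) : F[X] := CfsgLib.Symp.star (f.map σ)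

/-- The constant term with sign: the norm of a root. -/
def cst (f : F[X]) : F := (-1) ^ f.natDegree * f.coeff 0

theorem reverse_map' (σ : F →+* F) (f : F[X]) : (f.map σ).reverse = f.reverse.map σ := by
  ext i
  rw [coeff_map, coeff_reverse, coeff_reverse, natDegree_map, coeff_map]

theorem star_map (σ : F →+* F) (f : F[X]) : (CfsgLib.Symp.star f).map σ = CfsgLib.Symp.star (f.map σ) := by
  rw [CfsgLib.Symp.star, CfsgLib.Symp.star, reverse_map', Polynomial.map_mul, Polynomial.map_C, map_inv₀,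
    leadingCoeff_map]

theorem ust_monic (σ : F →+* F) {f : F[X]} (hf : f ≠ 0) : (ust σ f).Monic :=
  CfsgLib.Symp.star_monic _ ((Polynomial.map_ne_zero_iff σ.injective).mpr hf)

theorem natDegree_ust (σ : F →+* F) {f : F[X]} (h0 : f.coeff 0 ≠ 0) : (ust σ f).natDegree = f.natDegree := by
  rw [ust, CfsgLib.Symp.natDegree_star, natDegree_map]
  rwa [coeff_map, Ne, map_eq_zero]

theorem irreducible_ust [Finite F] (σ : F →+* F) {f : F[X]} (hf : Irreducible f) (h0 : f.coeff 0 ≠ 0) :
    Irreducible (ust σ f) := by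
  refine CfsgLib.Symp.irreducible_star ?_ (by rwa [coeff_map, Ne, map_eq_zero])
  let e : F ≃+* F := RingEquiv.ofBijective σ σ.injective.bijective_of_finite
  have h1 : f.map σ = Polynomial.mapEquiv e f := rfl
  rw [h1]
  exact (MulEquiv.irreducible_iff (Polynomial.mapEquiv e)).mpr hf

theorem ust_ust (σ : F →+* F) (hσ2 : ∀ x, σ (σ x) = x) {f : F[X]} (hm : f.Monic) (h0 : f.coeff 0 ≠ 0) :
    ust σ (ust σ f) = f := by
  rw [ust, ust, star_map, Polynomial.map_map, show σ.comp σ = RingHom.id F from RingHom.ext hσ2, Polynomial.map_id,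
    CfsgLib.Symp.star_star hm h0]

theorem cst_ust (σ : F →+* F) {f : F[X]} (hm : f.Monic) (h0 : f.coeff 0 ≠ 0) : cst (ust σ f) = (σ (cst f))⁻¹ := by
  have h0' : (f.map σ).coeff 0 ≠ 0 := by rwa [coeff_map, Ne, map_eq_zero]
  rw [cst, natDegree_ust σ h0, ust, CfsgLib.Symp.star, coeff_C_mul, coeff_zero_reverse, reverse_leadingCoeff,
    trailingCoeff, natTrailingDegree_eq_zero.mpr (Or.inr h0'), coeff_map, (hm.map σ).leadingCoeff, mul_one, cst,
    map_mul, map_pow, map_neg, map_one, mul_inv, ← inv_pow, inv_neg, inv_one]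

theorem cst_mul {f g : F[X]} (hf : f ≠ 0) (hg : g ≠ 0) : cst (f * g) = cst f * cst g := by
  rw [cst, cst, cst, natDegree_mul hf hg, mul_coeff_zero, pow_add]; ring

theorem associated_reverse {f g : F[X]} (h : Associated f g) : Associated f.reverse g.reverse := by
  obtain ⟨u, rfl⟩ := h
  obtain ⟨c, hc, hcu⟩ := Polynomial.isUnit_iff.mp u.isUnit
  rw [reverse_mul_of_domain, ← hcu, reverse_C]
  exact (associated_mul_unit_right _ _ (hc.map C))

theorem star_dvd' {f : F[X]} (hf : f ≠ 0) {N : ℕ} {e : F} (he : e ≠ 0)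
    (h : f ∣ X ^ N - C e) : CfsgLib.Symp.star f ∣ X ^ N - C e⁻¹ := by
  refine (CfsgLib.Symp.associated_star f hf).symm.dvd.trans ?_
  obtain ⟨g, hg⟩ := h
  have h1 := congrArg reverse hg
  rw [reverse_mul_of_domain] at h1
  have h2 : (X ^ N - C e : F[X]).reverse = C (-e) * (X ^ N - C e⁻¹) := by
    rw [reverse, natDegree_X_pow_sub_C, reflect_sub, reflect_C, reflect_monomial, revAt_le le_rfl, Nat.sub_self,
      pow_zero, mul_sub, ← C_mul, neg_mul, mul_inv_cancel₀ he]
    simp only [map_neg, map_one]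
    ring
  rw [h2] at h1
  refine (Dvd.intro _ h1.symm).trans ?_
  exact (CfsgLib.Symp.unitMul_associated ((isUnit_iff_ne_zero.mpr (neg_ne_zero.mpr he)).map C) _).dvd

/-- The characteristic polynomial data of a unitary matrix. -/
theorem factors_spec [Finite F] [DecidableEq F] (σ : F →+* F) (hσ2 : ∀ x, σ (σ x) = x) {n : ℕ}
    (g : Matrix (Fin n) (Fin n) F) (hU : IsU σ g) :
    (∀ f ∈ normalizedFactors g.charpoly, Irreducible f ∧ f.Monic ∧ f.coeff 0 ≠ 0) ∧
      (normalizedFactors g.charpoly).prod = g.charpoly ∧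
      ((normalizedFactors g.charpoly).map natDegree).sum = n ∧ ((normalizedFactors g.charpoly).map cst).prod = g.det ∧
      (normalizedFactors g.charpoly).map (ust σ) = normalizedFactors g.charpoly := by
  set χ := g.charpoly with hχ
  set s := normalizedFactors χ with hs
  have hne : χ ≠ 0 := (Matrix.charpoly_monic _).ne_zero
  have hu : IsUnit g := (Matrix.isUnit_iff_isUnit_det g).mpr (Matrix.isUnit_det_of_left_inverse hU)
  have hdet : g.det ≠ 0 := ((Matrix.isUnit_iff_isUnit_det g).mp hu).ne_zero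
  have hcd : g.det = cst χ := by
    rw [cst, hχ, Matrix.charpoly_natDegree_eq_dim, Matrix.det_eq_sign_charpoly_coeff]
  have hc0 : χ.coeff 0 ≠ 0 := fun h => hdet (by rw [hcd, cst, h, mul_zero])
  have hmem : ∀ f ∈ s, Irreducible f ∧ f.Monic ∧ f.coeff 0 ≠ 0 := by
    intro f hf
    refine ⟨irreducible_of_normalized_factor f hf, ?_, ?_⟩
    · rw [← normalize_normalized_factor f hf]
      exact monic_normalize (irreducible_of_normalized_factor f hf).ne_zero
    · intro h
      obtain ⟨r, hr⟩ := dvd_of_mem_normalizedFactors hf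
      exact hc0 (by rw [hr, mul_coeff_zero, h, zero_mul])
  have hpm : s.prod.Monic := by
    have := monic_multiset_prod_of_monic s id (fun f hf => (hmem f hf).2.1)
    rwa [Multiset.map_id] at this
  have hprod : s.prod = χ := eq_of_monic_of_associated hpm (Matrix.charpoly_monic _) (prod_normalizedFactors hne)
  have hdeg : (s.map natDegree).sum = n := by
    rw [← natDegree_multiset_prod_of_monic _ (fun f hf => (hmem f hf).2.1), hprod, hχ, Matrix.charpoly_natDegree_eq_dim,
      Fintype.card_fin]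
  have hcst : ∀ t : Multiset F[X], (∀ f ∈ t, f ≠ 0) → (t.map cst).prod = cst t.prod := by
    intro t
    induction t using Multiset.induction with
    | empty => intro _; simp [cst]
    | cons a t ih =>
      intro h
      have ht0 : t.prod ≠ 0 := Multiset.prod_ne_zero fun h0 => h 0 (Multiset.mem_cons_of_mem h0) rfl
      rw [Multiset.map_cons, Multiset.prod_cons, Multiset.prod_cons, ih fun f hf => h f (Multiset.mem_cons_of_mem hf),
        cst_mul (h a (by simp)) ht0]
  have hass : ∀ t : Multiset F[X], (∀ f ∈ t, f ≠ 0) → Associated (t.map (ust σ)).prod (t.prod.map σ).reverse := by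
    intro t
    induction t using Multiset.induction with
    | empty => intro _; rw [Multiset.map_zero, Multiset.prod_zero, Polynomial.map_one, ← C_1, reverse_C]
    | cons a t ih =>
      intro h
      simp only [Multiset.map_cons, Multiset.prod_cons, Polynomial.map_mul, reverse_mul_of_domain]
      exact (CfsgLib.Symp.associated_star _ ((Polynomial.map_ne_zero_iff σ.injective).mpr (h a (by simp)))).symm.mul_mul
        (ih fun f hf => h f (Multiset.mem_cons_of_mem hf))
  refine ⟨hmem, hprod, hdeg, ?_, ?_⟩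
  · rw [hcst s fun f hf => (hmem f hf).1.ne_zero, hprod, hcd]
  · have hirr : ∀ f ∈ s.map (ust σ), Irreducible f ∧ f.Monic := by
      intro f hf
      obtain ⟨f', hf', rfl⟩ := Multiset.mem_map.mp hf
      exact ⟨irreducible_ust σ (hmem f' hf').1 (hmem f' hf').2.2, ust_monic σ (hmem f' hf').1.ne_zero⟩
    have hrev : Associated (χ.map σ) χ.reverse := by
      have hinv : g⁻¹ = adj σ g := Matrix.inv_eq_left_inv hU
      have h1 : (adj σ g).charpoly = χ.map σ := by
        rw [adj, Matrix.charpoly_transpose, Matrix.charpoly_map]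
      have h2 := Matrix.charpoly_inv g hu
      rw [hinv, h1, ← Matrix.reverse_charpoly, ← hχ] at h2
      conv_lhs => rw [h2]
      refine CfsgLib.Symp.unitMul_associated (((IsUnit.pow _ isUnit_one.neg)).mul (IsUnit.map C ?_)) _
      exact ((Matrix.isUnit_iff_isUnit_det g).mp hu).ringInverse
    have h3 : Associated (χ.map σ).reverse χ := by
      have := associated_reverse hrev
      rwa [CfsgLib.Symp.reverse_reverse' hc0] at this
    have heq : (s.map (ust σ)).prod = χ := by
      refine eq_of_monic_of_associated ?_ (Matrix.charpoly_monic _) ?_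
      · have := monic_multiset_prod_of_monic (s.map (ust σ)) id (fun f hf => (hirr f hf).2)
        rwa [Multiset.map_id] at this
      · refine (hass s fun f hf => (hmem f hf).1.ne_zero).trans ?_
        rw [hprod]
        exact h3
    have h := normalizedFactors_prod_eq (s.map (ust σ)) (fun f hf => (hirr f hf).1)
    rw [heq, Multiset.map_congr rfl (fun f hf => (hirr f hf).2.normalize_eq_self), Multiset.map_id'] at h
    exact h.symm

/-- The norm of a root, as a power of the root. -/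
theorem root_pow_eq_cst [Finite F] {f : F[X]} [Fact (Irreducible f)] (hm : f.Monic) :
    AdjoinRoot.root f ^ (∑ i ∈ Finset.range f.natDegree, Nat.card F ^ i) = algebraMap F (AdjoinRoot f) (cst f) := by
  have hf : Irreducible f := Fact.out
  let pb := AdjoinRoot.powerBasis hf.ne_zero
  have : Module.Finite F (AdjoinRoot f) := PowerBasis.finite pb
  have : Finite (AdjoinRoot f) := Module.finite_of_finite F
  have hgen : pb.gen = AdjoinRoot.root f := AdjoinRoot.powerBasis_gen hf.ne_zero
  have hdim : pb.dim = f.natDegree := AdjoinRoot.powerBasis_dim hf.ne_zero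
  have h1 := Algebra.PowerBasis.norm_gen_eq_coeff_zero_minpoly pb
  rw [hgen, hdim, AdjoinRoot.minpoly_root hf.ne_zero, hm.leadingCoeff, inv_one, C_1, mul_one] at h1
  rw [← cst] at h1
  have h2 : Module.finrank F (AdjoinRoot f) = f.natDegree := by rw [pb.finrank, hdim]
  rw [← h1, FiniteField.algebraMap_norm_eq_pow_sum, h2]

theorem root_ne_zero {f : F[X]} [Fact (Irreducible f)] (h0 : f.coeff 0 ≠ 0) : AdjoinRoot.root f ≠ 0 := by
  intro h
  have h3 : aeval (AdjoinRoot.root f) f = 0 := by rw [AdjoinRoot.aeval_eq, AdjoinRoot.mk_self]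
  rw [h, ← coeff_zero_eq_aeval_zero'] at h3
  exact h0 ((algebraMap F (AdjoinRoot f)).injective (h3.trans (map_zero _).symm))

theorem root_pow_card [Finite F] {f : F[X]} [Fact (Irreducible f)] :
    AdjoinRoot.root f ^ Nat.card F ^ f.natDegree = AdjoinRoot.root f := by
  have hf : Irreducible f := Fact.out
  have h : f ∣ X ^ Nat.card F ^ f.natDegree - X := hf.natDegree_dvd_iff_dvd_X_pow_card_pow_sub_X.mp dvd_rfl
  rw [← AdjoinRoot.mk_eq_zero, map_sub, map_pow, AdjoinRoot.mk_X, sub_eq_zero] at h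
  exact h

/-- A self-conjugate-reciprocal irreducible polynomial has odd degree `d` and its root `z` has `z^(q^d+1) = 1`. -/
theorem self_spec [Fintype F] (q : ℕ) (hF : Fintype.card F = q ^ 2) (σ : F →+* F) (hσ : ∀ x, σ x = x ^ q)
    (hσ2 : ∀ x, σ (σ x) = x) (p e : ℕ) [Fact p.Prime] [CharP F p] (hqe : q = p ^ e) {f : F[X]} [Fact (Irreducible f)]
    (h0 : f.coeff 0 ≠ 0) (hm : f.Monic) (hs : ust σ f = f) :
    Odd f.natDegree ∧ AdjoinRoot.root f ^ (q ^ f.natDegree + 1) = 1 := by
  classical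
  have hf : Irreducible f := Fact.out
  have hQ : Nat.card F = q ^ 2 := by rw [Nat.card_eq_fintype_card, hF]
  let pb := AdjoinRoot.powerBasis hf.ne_zero
  have : Module.Finite F (AdjoinRoot f) := PowerBasis.finite pb
  have : Finite (AdjoinRoot f) := Module.finite_of_finite F
  have : CharP (AdjoinRoot f) p := charP_of_injective_algebraMap (algebraMap F (AdjoinRoot f)).injective p
  set z := AdjoinRoot.root f with hz
  have hz0 : z ≠ 0 := root_ne_zero h0
  let frob : AdjoinRoot f →+* AdjoinRoot f := iterateFrobenius (AdjoinRoot f) p e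
  have hfrob : ∀ y, frob y = y ^ q := fun y => by rw [hqe]; exact iterateFrobenius_def ..
  have hf0 : aeval z f = 0 := by rw [hz, AdjoinRoot.aeval_eq, AdjoinRoot.mk_self]
  have hm' : aeval z⁻¹ (f.map σ) = 0 := by
    have h4 : f.map σ ≠ 0 := (Polynomial.map_ne_zero_iff σ.injective).mpr hf.ne_zero
    have h5 : aeval z (f.map σ).reverse = 0 := by
      obtain ⟨u, hu⟩ := CfsgLib.Symp.associated_star _ h4
      have h6 : aeval z ((f.map σ).reverse * (u : F[X])) = 0 := by
        rw [hu, show CfsgLib.Symp.star (f.map σ) = f from hs, hf0]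
      rw [map_mul] at h6
      exact (mul_eq_zero.mp h6).resolve_right ((Units.map (aeval z : F[X] →ₐ[F] _).toRingHom.toMonoidHom u).ne_zero)
    let := invertibleOfNonzero hz0
    have hi : Invertible z⁻¹ := invertibleOfNonzero (inv_ne_zero hz0)
    have := (eval₂_reverse_eq_zero_iff (algebraMap F (AdjoinRoot f)) z⁻¹ (f.map σ)).mp
      (by rw [invOf_eq_inv, inv_inv]; exact h5)
    exact this
  have hy : aeval (z⁻¹ ^ q) f = 0 := by
    have h := congrArg frob hm'
    rw [map_zero, aeval_def, Polynomial.hom_eval₂, hfrob, eval₂_map] at h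
    have hc : (frob.comp (algebraMap F (AdjoinRoot f))).comp σ = algebraMap F (AdjoinRoot f) := RingHom.ext fun c => by
      show frob (algebraMap F (AdjoinRoot f) (σ c)) = _
      rw [hfrob, ← map_pow, ← hσ, hσ2]
    rw [hc] at h
    rw [aeval_def]
    exact h
  have hmin : minpoly F z = f := by
    rw [hz, AdjoinRoot.minpoly_root hf.ne_zero, hm.leadingCoeff, inv_one, C_1, mul_one]
  obtain ⟨τ, hτ⟩ : ∃ τ : AdjoinRoot f →ₐ[F] AdjoinRoot f, τ z = z⁻¹ ^ q := by
    refine ⟨pb.lift (z⁻¹ ^ q) ?_, pb.lift_gen _ _⟩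
    rw [show pb.gen = z from AdjoinRoot.powerBasis_gen hf.ne_zero, hmin]
    exact hy
  obtain ⟨i, hi⟩ := (FiniteField.bijective_frobeniusAlgHom_pow F (AdjoinRoot f)).2 τ
  have hfin : Module.finrank F (AdjoinRoot f) = f.natDegree := by rw [pb.finrank, AdjoinRoot.powerBasis_dim]
  have hlt : i.val < f.natDegree := hfin ▸ i.isLt
  have hipow : z ^ (Nat.card F ^ i.val) = z⁻¹ ^ q := by
    rw [← hτ, ← hi]
    show _ = (FiniteField.frobeniusAlgHom F (AdjoinRoot f) ^ i.val) z
    rw [AlgHom.coe_pow, FiniteField.coe_frobeniusAlgHom, pow_iterate, Nat.card_eq_fintype_card]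
  have hone : z ^ (Nat.card F ^ i.val + q) = 1 := by
    rw [pow_add, hipow, ← mul_pow, inv_mul_cancel₀ hz0, one_pow]
  obtain ⟨j, hjodd, hjlt, hj⟩ : ∃ j, Odd j ∧ j < 2 * f.natDegree ∧ z ^ (q ^ j + 1) = 1 := by
    rcases Nat.eq_zero_or_pos i.val with h | h
    · refine ⟨1, odd_one, by omega, ?_⟩
      rw [h, pow_zero] at hone
      rw [pow_one, add_comm]; exact hone
    · refine ⟨2 * i.val - 1, ⟨i.val - 1, by omega⟩, by omega, ?_⟩
      have h1 : z ^ (q * (q ^ (2 * i.val - 1) + 1)) = 1 := by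
        rw [Nat.mul_add, mul_one, ← pow_succ', show 2 * i.val - 1 + 1 = 2 * i.val by omega, pow_mul q 2, ← hQ]
        exact hone
      have h3 : frob (z ^ (q ^ (2 * i.val - 1) + 1)) = frob 1 := by
        rw [hfrob, map_one, ← pow_mul, mul_comm, h1]
      exact frob.injective h3
  have hdvd : f.natDegree ∣ j := by
    refine hf.natDegree_dvd_iff_dvd_X_pow_card_pow_sub_X.mpr ?_
    rw [← AdjoinRoot.mk_eq_zero, map_sub, map_pow, AdjoinRoot.mk_X, sub_eq_zero, hQ, ← pow_mul, mul_comm 2,
      pow_mul, ← hz]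
    have h1 : z ^ (q ^ j) = z⁻¹ := by
      rw [pow_succ] at hj
      exact eq_inv_of_mul_eq_one_left hj
    rw [sq, pow_mul, h1, inv_pow, h1, inv_inv]
  obtain ⟨c, hc⟩ := hdvd
  have hlt2 : f.natDegree * c < f.natDegree * 2 := by omega
  have hc2 : c < 2 := Nat.lt_of_mul_lt_mul_left hlt2
  have hc0 : c ≠ 0 := by
    rintro rfl
    obtain ⟨l, hl⟩ := hjodd
    omega
  rw [show c = 1 by omega, mul_one] at hc
  exact ⟨hc ▸ hjodd, hc ▸ hj⟩

/-- Every root of a single orbit of factors is killed by `uN q n`. -/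
theorem dvd_X_pow_uN_sub_one [Fintype F] (q : ℕ) (hF : Fintype.card F = q ^ 2) (σ : F →+* F) (hσ : ∀ x, σ x = x ^ q)
    (hσ2 : ∀ x, σ (σ x) = x) (p e : ℕ) [Fact p.Prime] [CharP F p] (hqe : q = p ^ e) (hq : 2 ≤ q) {f : F[X]}
    (hf : Irreducible f) (hm : f.Monic) (h0 : f.coeff 0 ≠ 0) (n m : ℕ)
    (h : (ust σ f = f ∧ f.natDegree * m = n ∧ cst f ^ m = 1) ∨
      (2 * f.natDegree * m = n ∧ (cst f * (σ (cst f))⁻¹) ^ m = 1)) :
    f ∣ X ^ uN q n - 1 := by
  have : Fact (Irreducible f) := ⟨hf⟩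
  have hQ : Nat.card F = q ^ 2 := by rw [Nat.card_eq_fintype_card, hF]
  set d := f.natDegree with hd
  set φ := algebraMap F (AdjoinRoot f)
  have hz0 : AdjoinRoot.root f ≠ 0 := root_ne_zero h0
  set z : (AdjoinRoot f)ˣ := Units.mk0 _ hz0 with hz
  have hc0 : cst f ≠ 0 := mul_ne_zero (pow_ne_zero _ (neg_ne_zero.mpr one_ne_zero)) h0
  set c : Fˣ := Units.mk0 _ hc0 with hc
  let Φ : Fˣ →* (AdjoinRoot f)ˣ := Units.map φ.toMonoidHom
  set S : ℤ := ∑ i ∈ Finset.range d, ((q : ℤ) ^ 2) ^ i with hS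
  have hzS : z ^ S = Φ c := by
    have e1 : S = ((∑ i ∈ Finset.range d, (q ^ 2) ^ i : ℕ) : ℤ) := by rw [hS]; push_cast; rfl
    rw [e1, zpow_natCast]
    apply Units.ext
    rw [Units.val_pow_eq_pow_val]
    show AdjoinRoot.root f ^ _ = φ (cst f)
    rw [hd, ← hQ]
    exact root_pow_eq_cst hm
  have key : ∀ a k : ℕ, n = a * k → z ^ (((q : ℤ) + 1) * uH q a) = 1 → (z ^ uH q a) ^ k = 1 → z ^ uH q n = 1 := by
    intro a k hn h1 h2
    obtain ⟨t, ht⟩ := dvd_geom_sub q a k
    rw [hn, uH_mul, eq_add_of_sub_eq ht, mul_add, zpow_add, ← mul_assoc, mul_comm (uH q a) ((q : ℤ) + 1), zpow_mul, h1,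
      one_zpow, one_mul, zpow_mul, zpow_natCast, h2]
  have hfin : z ^ uH q n = 1 → f ∣ X ^ uN q n - 1 := by
    intro h1
    have h2 : z ^ uN q n = 1 := pow_natAbs_eq_one.mpr h1
    rw [← AdjoinRoot.mk_eq_zero, map_sub, map_pow, AdjoinRoot.mk_X, map_one, sub_eq_zero]
    have := congrArg Units.val h2
    simpa [hz] using this
  rcases h with ⟨hs, hn, hcm⟩ | ⟨hn, hcm⟩
  · obtain ⟨hodd, hz1⟩ := self_spec q hF σ hσ hσ2 p e hqe h0 hm hs
    have h1 : z ^ (((q : ℤ) + 1) * uH q d) = 1 := by
      rw [uH_mul_self, hodd.neg_pow, sub_neg_eq_add, add_comm,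
        show ((q : ℤ) ^ d + 1) = ((q ^ d + 1 : ℕ) : ℤ) by push_cast; rfl, zpow_natCast]
      exact Units.ext (by rw [Units.val_pow_eq_pow_val]; exact hz1)
    refine hfin (key d m hn.symm h1 ?_)
    have h2 : z ^ uH q d = Φ c := by
      rw [← hzS, hS, geom_sq_eq q hq hodd]
      obtain ⟨t, ht⟩ := dvd_geom_sub_one q hodd
      rw [eq_add_of_sub_eq ht, mul_add, mul_one, zpow_add, ← mul_assoc, mul_comm (uH q d) ((q : ℤ) + 1), zpow_mul, h1,
        one_zpow, one_mul]
    rw [h2, ← map_pow, show c ^ m = 1 from Units.ext (by rw [Units.val_pow_eq_pow_val]; exact hcm), map_one]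
  · have hzQ : z ^ ((1 : ℤ) - ((q : ℤ) ^ 2) ^ d) = 1 := by
      have h1 : z ^ ((q ^ 2) ^ d) = z := Units.ext (by
        rw [Units.val_pow_eq_pow_val, hd, ← hQ]; exact root_pow_card)
      rw [zpow_sub, zpow_one, show (((q : ℤ) ^ 2) ^ d) = (((q ^ 2) ^ d : ℕ) : ℤ) by push_cast; rfl, zpow_natCast, h1,
        mul_inv_cancel]
    have h1 : z ^ (((q : ℤ) + 1) * uH q (2 * d)) = 1 := by
      rw [uH_mul_self, pow_mul, neg_sq]; exact hzQ
    refine hfin (key (2 * d) m hn.symm h1 ?_)
    have h2 : z ^ uH q (2 * d) = Φ c ^ ((1 : ℤ) - q) := by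
      rw [uH_two_mul, ← hS, mul_comm, zpow_mul, hzS]
    have hcσ : ((c ^ ((1 : ℤ) - q) : Fˣ) : F) = cst f * (σ (cst f))⁻¹ := by
      rw [zpow_sub, zpow_one, zpow_natCast, Units.val_mul, Units.val_inv_eq_inv_val, Units.val_pow_eq_pow_val, hσ]
      rfl
    rw [h2, ← map_zpow, ← map_pow,
      show (c ^ ((1 : ℤ) - q)) ^ m = 1 from Units.ext (by rw [Units.val_pow_eq_pow_val, hcσ]; exact hcm), map_one]

end CfsgLib.Unitary
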