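import Cfsg.Agent.Unitary.Elements

/-! Orders of elements of `PSU_n(q)`: torus, unipotent and mixed elements. -/

set_option autoImplicit false

namespace CfsgLib.Unitary

open Matrix

variable {F : Type*} [Field F]

/-- An element of order divisible by `uM q n`. -/
theorem exists_psu_singer [Fintype F] (q : ℕ) (hF : Fintype.card F = q ^ 2) {n : ℕ} (hn : 3 ≤ n) :
    ∃ x : Cfsg.PSU n F q, uM q n ∣ orderOf x := by
  obtain ⟨σ, hσ, hσ2, hσne, hq2⟩ := exists_conj q hF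
  obtain ⟨S, hU, hdet, hS⟩ : ∃ S : Matrix (Fin n) (Fin n) F, IsU σ S ∧ S.det = 1 ∧
      ∀ (k : ℕ) (c : F), S ^ k = c • (1 : Matrix (Fin n) (Fin n) F) → uM q n ∣ k := by
    rcases Nat.even_or_odd n with h | h
    · exact exists_singer_even q hF h (by omega) σ hσ hσ2 hσne hq2
    · exact exists_singer_odd q hF h σ hσ hσ2 hσne
  obtain ⟨g, hg⟩ := exists_SU σ q hσ hσ2 S hdet hU
  refine ⟨(g : Cfsg.PSU n F q), ?_⟩
  obtain ⟨c, hc⟩ := (mk_pow_eq_one_iff q hF hn g _).mp (pow_orderOf_eq_one (g : Cfsg.PSU n F q))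
  exact hS _ c (hg ▸ hc)

/-- An element of order divisible by `p^clog n`. -/
theorem exists_psu_unipotent [Fintype F] (q : ℕ) (hF : Fintype.card F = q ^ 2) (p : ℕ) [Fact p.Prime] [CharP F p]
    {n : ℕ} (hn : 3 ≤ n) : ∃ x : Cfsg.PSU n F q, p ^ Nat.clog p n ∣ orderOf x := by
  obtain ⟨σ, hσ, hσ2, hσne, hq2⟩ := exists_conj q hF
  obtain ⟨U, hU, hdet, hord⟩ := exists_unipotent_unitary p σ hσ2 hσne n (by omega)
  obtain ⟨g, hg⟩ := exists_SU σ q hσ hσ2 U hdet hU
  refine ⟨(g : Cfsg.PSU n F q), ?_⟩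
  obtain ⟨c, hc⟩ := (mk_pow_eq_one_iff q hF hn g _).mp (pow_orderOf_eq_one (g : Cfsg.PSU n F q))
  rw [hg] at hc
  set k := orderOf (g : Cfsg.PSU n F q)
  have h1 : (U ^ k) ^ p ^ Nat.clog p n = 1 := by
    rw [← pow_mul, mul_comm, pow_mul, ← hord, pow_orderOf_eq_one, one_pow]
  have : Nonempty (Fin n) := ⟨⟨0, by omega⟩⟩
  rw [hc, _root_.smul_pow, one_pow] at h1
  have h2 : c ^ p ^ Nat.clog p n = 1 := by
    have := congrFun (congrFun h1 (Classical.arbitrary _)) (Classical.arbitrary _)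
    simpa using this
  have h3 : c = 1 := by
    have h4 : (c - 1) ^ p ^ Nat.clog p n = 0 := by rw [sub_pow_char_pow, h2, one_pow, sub_self]
    exact sub_eq_zero.mp (eq_zero_of_pow_eq_zero h4)
  rw [h3, one_smul] at hc
  rw [← hord]
  exact orderOf_dvd_of_pow_eq_one hc

/-- An element of order divisible by `p^clog (n-1)` and by the prime `r`. -/
theorem exists_psu_mixed [Fintype F] (q : ℕ) (hF : Fintype.card F = q ^ 2) (p : ℕ) [Fact p.Prime] [CharP F p]
    {k n : ℕ} (hkn : k + 1 = n) (hn : 3 ≤ n) (r : ℕ) (hr : r.Prime) (hrq : r ∣ q + 1) (hrn : ¬ r ∣ n) :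
    ∃ x : Cfsg.PSU n F q, p ^ Nat.clog p k ∣ orderOf x ∧ r ∣ orderOf x := by
  classical
  have : Fact r.Prime := ⟨hr⟩
  obtain ⟨σ, hσ, hσ2, hσne, hq2⟩ := exists_conj q hF
  obtain ⟨U, hU, hdet, hord⟩ := exists_unipotent_unitary p σ hσ2 hσne k (by omega)
  obtain ⟨ζ, hζ⟩ := exists_prime_orderOf_dvd_card' (G := Fˣ) r (by
    rw [Nat.card_units, Nat.card_eq_fintype_card, hF]
    exact hrq.trans ⟨q - 1, by rw [← Nat.sq_sub_sq, one_pow]⟩)
  have hζr : ζ ^ r = 1 := hζ ▸ pow_orderOf_eq_one ζ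
  set w : Fˣ := (ζ⁻¹) ^ k with hw
  have hnorm : ∀ x : Fˣ, x ^ r = 1 → σ (x : F) * x = 1 := by
    intro x hx
    obtain ⟨t, ht⟩ := hrq
    rw [hσ, ← pow_succ, ← Units.val_pow_eq_pow_val, ht, pow_mul, hx, one_pow, Units.val_one]
  have hwr : w ^ r = 1 := by rw [hw, ← pow_mul, mul_comm, pow_mul, inv_pow, hζr, inv_one, one_pow]
  let e : Fin k ⊕ Fin 1 ≃ Fin n := finSumFinEquiv.trans (finCongr hkn)
  set A : Matrix (Fin k ⊕ Fin 1) (Fin k ⊕ Fin 1) F :=
    fromBlocks ((ζ : F) • U) 0 0 ((w : F) • (1 : Matrix (Fin 1) (Fin 1) F)) with hA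
  have hAU : adj σ A * A = 1 := by
    have h0 : ∀ (ι κ : Type) , adj σ (0 : Matrix ι κ F) = 0 := fun ι κ => by ext i j; simp [adj]
    rw [hA, adj_fromBlocks, h0, h0, adj_smul, adj_smul, adj_one, fromBlocks_multiply]
    simp only [Matrix.mul_zero, Matrix.zero_mul, add_zero, zero_add, Matrix.smul_mul, Matrix.mul_smul, smul_smul,
      Matrix.one_mul, smul_zero]
    rw [mul_comm (ζ : F), hnorm ζ hζr, mul_comm (w : F), hnorm w hwr, one_smul, one_smul, show adj σ U * U = 1 from hU,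
      fromBlocks_one]
  set M := Matrix.reindex e e A with hM
  have hMU : IsU σ M := by
    show adj σ M * M = 1
    rw [hM, adj_reindex, Matrix.reindex_apply, Matrix.reindex_apply, Matrix.submatrix_mul_equiv, hAU,
      Matrix.submatrix_one_equiv]
  have hMd : M.det = 1 := by
    rw [hM, Matrix.det_reindex_self, hA, Matrix.det_fromBlocks_zero₂₁, Matrix.det_smul, Matrix.det_smul, hdet,
      Matrix.det_one, mul_one, mul_one, Fintype.card_fin, Fintype.card_fin, pow_one, ← Units.val_pow_eq_pow_val,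
      ← Units.val_mul, hw, ← mul_pow, mul_inv_cancel, one_pow, Units.val_one]
  obtain ⟨g, hg⟩ := exists_SU σ q hσ hσ2 M hMd hMU
  refine ⟨(g : Cfsg.PSU n F q), ?_⟩
  obtain ⟨c, hc⟩ := (mk_pow_eq_one_iff q hF hn g _).mp (pow_orderOf_eq_one (g : Cfsg.PSU n F q))
  rw [hg] at hc
  set j := orderOf (g : Cfsg.PSU n F q)
  have hAj : A ^ j = c • (1 : Matrix (Fin k ⊕ Fin 1) (Fin k ⊕ Fin 1) F) := by
    have h := congrArg (Matrix.reindexAlgEquiv F F e).symm hc
    rw [map_pow, map_smul, map_one, hM] at h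
    simpa [Matrix.reindexAlgEquiv_apply, Matrix.reindexAlgEquiv] using h
  rw [hA, Matrix.fromBlocks_diagonal_pow, ← fromBlocks_one, fromBlocks_smul, fromBlocks_inj, _root_.smul_pow,
    _root_.smul_pow, one_pow] at hAj
  obtain ⟨h1, -, -, h2⟩ := hAj
  have hwc : (w : F) ^ j = c := by
    have := congrFun (congrFun h2 0) 0
    simpa using this
  have hz0 : (ζ : F) ^ j ≠ 0 := pow_ne_zero _ ζ.ne_zero
  have hU' : U ^ j = (((ζ : F) ^ j)⁻¹ * c) • (1 : Matrix (Fin k) (Fin k) F) := by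
    rw [← smul_smul, ← h1, smul_smul, inv_mul_cancel₀ hz0, one_smul]
  have h3 : (((ζ : F) ^ j)⁻¹ * c) = 1 := by
    have h4 : (U ^ j) ^ p ^ Nat.clog p k = 1 := by
      rw [← pow_mul, mul_comm, pow_mul, ← hord, pow_orderOf_eq_one, one_pow]
    rw [hU', _root_.smul_pow, one_pow] at h4
    have : Nonempty (Fin k) := ⟨⟨0, by omega⟩⟩
    set u := ((ζ : F) ^ j)⁻¹ * c
    have h5 : u ^ p ^ Nat.clog p k = 1 := by
      have := congrFun (congrFun h4 (Classical.arbitrary _)) (Classical.arbitrary _)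
      simpa using this
    have h6 : (u - 1) ^ p ^ Nat.clog p k = 0 := by rw [sub_pow_char_pow, h5, one_pow, sub_self]
    exact sub_eq_zero.mp (eq_zero_of_pow_eq_zero h6)
  refine ⟨?_, ?_⟩
  · rw [← hord]
    exact orderOf_dvd_of_pow_eq_one (by rw [hU', h3, one_smul])
  · have h7 : ζ ^ j = w ^ j := by
      apply Units.ext
      rw [Units.val_pow_eq_pow_val, Units.val_pow_eq_pow_val, hwc]
      rw [inv_mul_eq_one₀ hz0] at h3
      exact h3
    rw [hw, inv_pow, inv_pow, eq_inv_iff_mul_eq_one, ← pow_mul, ← pow_add] at h7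
    have h8 := orderOf_dvd_of_pow_eq_one h7
    rw [hζ, show j + k * j = n * j by rw [← hkn]; ring] at h8
    exact (hr.dvd_mul.mp h8).resolve_left hrn

end CfsgLib.Unitary
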