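import Cfsg.Agent.Unitary.Factors
import Cfsg.Agent.GLOrders.Primary

/-! Element orders of `PSU_n(q)`: each divides `uM q n * p^c` or commutes with an element of prime order `r ∣ q + 1`. -/

set_option autoImplicit false

namespace CfsgLib.Unitary

open Polynomial UniqueFactorizationMonoid

variable {F : Type*} [Field F]

theorem adj_aeval (σ : F →+* F) {n : ℕ} (g gi : Matrix (Fin n) (Fin n) F) (hgi : adj σ g = gi) (P : F[X]) :
    adj σ (aeval g P) = aeval gi (P.map σ) := by
  induction P using Polynomial.induction_on with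
  | C c => simp [Algebra.algebraMap_eq_smul_one, adj_smul, adj_one]
  | add A B hA hB =>
    rw [map_add, Polynomial.map_add, map_add, ← hA, ← hB]
    ext i j
    simp [adj]
  | monomial m c ih =>
    rw [pow_succ, ← mul_assoc, map_mul, adj_mul, ih, aeval_X, hgi]
    have h : ((C c * X ^ m * X : F[X]).map σ) = X * (C c * X ^ m).map σ := by
      rw [Polynomial.map_mul (p := C c * X ^ m), Polynomial.map_X, mul_comm]
    rw [h, map_mul, aeval_X]

theorem pow_mul_aeval_inv {A : Type*} [Ring A] [Algebra F A] (g gi : A) (h : g * gi = 1) (P : F[X]) :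
    g ^ P.natDegree * aeval gi P = aeval g P.reverse := by
  set N := P.natDegree with hN
  have hle : P.reverse.natDegree < N + 1 := by rw [reverse_natDegree]; omega
  rw [aeval_eq_sum_range, aeval_eq_sum_range' hle, ← hN, Finset.mul_sum]
  conv_rhs => rw [← Finset.sum_range_reflect]
  refine Finset.sum_congr rfl fun i hi => ?_
  have hiN : i ≤ N := by have := Finset.mem_range.mp hi; omega
  rw [Nat.add_sub_cancel, coeff_reverse, revAt_le (by omega : N - i ≤ P.natDegree), ← hN,
    Nat.sub_sub_self hiN, mul_smul_comm]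
  congr 1
  have hp : ∀ k, g ^ k * gi ^ k = 1 := by
    intro k
    induction k with
    | zero => simp
    | succ k ih => rw [pow_succ, pow_succ', mul_assoc, ← mul_assoc g gi, h, one_mul, ih]
  conv_lhs => rw [← Nat.sub_add_cancel hiN, pow_add, mul_assoc, hp, mul_one]

theorem aeval_stable [Finite F] (σ : F →+* F) {n : ℕ} (g : Matrix (Fin n) (Fin n) F) (hU : IsU σ g) (P : F[X])
    (hP : Associated (P.map σ).reverse P) :
    ∃ T, adj σ (aeval g P) = T * aeval g P := by
  have h1 : g * adj σ g = 1 := mul_eq_one_comm.mp hU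
  obtain ⟨u, hu⟩ := hP.symm
  have hp : ∀ k, adj σ g ^ k * g ^ k = 1 := by
    intro k
    induction k with
    | zero => simp
    | succ k ih => rw [pow_succ, pow_succ', mul_assoc, ← mul_assoc (adj σ g) g, hU, one_mul, ih]
  refine ⟨adj σ g ^ (P.map σ).natDegree * aeval g (u : F[X]), ?_⟩
  rw [adj_aeval σ g _ rfl, mul_assoc, ← map_mul, mul_comm (u : F[X]) P, hu, ← pow_mul_aeval_inv g (adj σ g) h1,
    ← mul_assoc, hp, one_mul]

/-- Either a nontrivial self-adjoint idempotent commutes with `g`, or a single orbit of factors. -/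
theorem idempotent_or_dvd [Fintype F] [DecidableEq F] (q : ℕ) (hF : Fintype.card F = q ^ 2) (σ : F →+* F) (hσ : ∀ x, σ x = x ^ q)
    (hσ2 : ∀ x, σ (σ x) = x) (p e : ℕ) [Fact p.Prime] [CharP F p] (hqe : q = p ^ e) (hq : 2 ≤ q) {n : ℕ} (hn : 0 < n)
    (g : Matrix (Fin n) (Fin n) F) (hU : IsU σ g) (hdet : g.det = 1) :
    (∃ e : Matrix (Fin n) (Fin n) F, e * e = e ∧ adj σ e = e ∧ e ≠ 0 ∧ e ≠ 1 ∧ g * e = e * g) ∨
      ∃ f₀ ∈ normalizedFactors g.charpoly, f₀ ∣ X ^ uN q n - 1 ∧
        ∀ f ∈ normalizedFactors g.charpoly, f = f₀ ∨ f = ust σ f₀ := by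
  classical
  obtain ⟨hmem, hprod, hdeg, hcst, hmap⟩ := factors_spec σ hσ2 g hU
  set s := normalizedFactors g.charpoly with hs
  obtain ⟨f₀, hf₀⟩ : ∃ f, f ∈ s := by
    apply Multiset.exists_mem_of_ne_zero
    intro h
    rw [h, Multiset.map_zero, Multiset.sum_zero] at hdeg
    omega
  obtain ⟨hi, hm, h0⟩ := hmem f₀ hf₀
  set f₁ := ust σ f₀ with hf₁
  have hf₁s : f₁ ∈ s := by rw [← hmap]; exact Multiset.mem_map_of_mem _ hf₀
  by_cases hall : ∀ f ∈ s, f = f₀ ∨ f = f₁
  · right
    refine ⟨f₀, hf₀, ?_, hall⟩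
    have hcount : s.count f₁ = s.count f₀ := by
      conv_lhs => rw [← hmap]
      refine Multiset.count_map_eq_count (ust σ) s ?_ f₀ hf₀
      intro a ha b hb hab
      rw [← ust_ust σ hσ2 (hmem a ha).2.1 (hmem a ha).2.2, hab, ust_ust σ hσ2 (hmem b hb).2.1 (hmem b hb).2.2]
    have hsub : s.toFinset ⊆ {f₀, f₁} := by
      intro f hf
      simpa using hall f (Multiset.mem_toFinset.mp hf)
    have hd : ∑ f ∈ ({f₀, f₁} : Finset F[X]), s.count f * f.natDegree = n := by
      rw [← Finset.sum_subset hsub (fun f _ hf => by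
        rw [Multiset.count_eq_zero.mpr (fun h => hf (Multiset.mem_toFinset.mpr h)), zero_mul])]
      have h1 := hdeg
      rw [Finset.sum_multiset_map_count] at h1
      simpa using h1
    have hc : ∏ f ∈ ({f₀, f₁} : Finset F[X]), cst f ^ s.count f = 1 := by
      rw [← Finset.prod_subset hsub (fun f _ hf => by
        rw [Multiset.count_eq_zero.mpr (fun h => hf (Multiset.mem_toFinset.mpr h)), pow_zero])]
      rw [← Finset.prod_multiset_map_count, hcst, hdet]
    refine dvd_X_pow_uN_sub_one q hF σ hσ hσ2 p e hqe hq hi hm h0 n (s.count f₀) ?_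
    by_cases hself : f₁ = f₀
    · left
      rw [hself, Finset.pair_eq_singleton, Finset.sum_singleton] at hd
      rw [hself, Finset.pair_eq_singleton, Finset.prod_singleton] at hc
      exact ⟨hself, by rw [mul_comm]; exact hd, hc⟩
    · right
      rw [Finset.sum_pair (fun h => hself h.symm), hcount, natDegree_ust σ h0] at hd
      rw [Finset.prod_pair (fun h => hself h.symm), hcount, cst_ust σ hm h0, ← mul_pow] at hc
      exact ⟨by rw [← hd]; ring, hc⟩
  · left
    push Not at hall
    obtain ⟨f₂, hf₂, hf₂0, hf₂1⟩ := hall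
    let Pr : F[X] → Prop := fun f => f = f₀ ∨ f = f₁
    have hstab : ∀ f ∈ s, (Pr (ust σ f) ↔ Pr f) := by
      intro f hf
      constructor
      · rintro (h | h)
        · right
          rw [← ust_ust σ hσ2 (hmem f hf).2.1 (hmem f hf).2.2, h]
        · left
          rw [← ust_ust σ hσ2 (hmem f hf).2.1 (hmem f hf).2.2, h, hf₁, ust_ust σ hσ2 hm h0]
      · rintro (h | h)
        · right; rw [h]
        · left; rw [h, hf₁, ust_ust σ hσ2 hm h0]
    have hsS : ∀ Q : F[X] → Prop, (∀ f ∈ s, (Q (ust σ f) ↔ Q f)) →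
        Associated ((s.filter Q).prod.map σ).reverse (s.filter Q).prod := by
      intro Q hQ
      have e1 : (s.filter Q).map (ust σ) = s.filter Q := by
        conv_rhs => rw [← hmap, Multiset.filter_map]
        refine congrArg _ (Multiset.filter_congr fun f hf => ?_)
        exact (hQ f hf).symm
      have : ∀ t : Multiset F[X], (∀ f ∈ t, f ≠ 0) → Associated (t.map (ust σ)).prod (t.prod.map σ).reverse := by
        intro t
        induction t using Multiset.induction with
        | empty => intro _; rw [Multiset.map_zero, Multiset.prod_zero, Polynomial.map_one, ← C_1, reverse_C]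
        | cons a t ih =>
          intro h
          simp only [Multiset.map_cons, Multiset.prod_cons, Polynomial.map_mul, reverse_mul_of_domain]
          exact (CfsgLib.Symp.associated_star _ ((Polynomial.map_ne_zero_iff σ.injective).mpr (h a (by simp)))).symm.mul_mul
            (ih fun f hf => h f (Multiset.mem_cons_of_mem hf))
      have h1 := this (s.filter Q) fun f hf => (hmem f (Multiset.mem_of_mem_filter hf)).1.ne_zero
      rw [e1] at h1
      exact h1.symm
    set PS := (s.filter Pr).prod with hPS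
    set PR := (s.filter fun f => ¬ Pr f).prod with hPR
    have hsPS := hsS Pr hstab
    have hsPR := hsS (fun f => ¬ Pr f) (fun f hf => not_congr (hstab f hf))
    have hSR : PS * PR = g.charpoly := by
      rw [hPS, hPR, ← Multiset.prod_add, Multiset.filter_add_not, hprod]
    have hcop : IsCoprime PS PR := by
      have h1 : ∀ t : Multiset F[X], (∀ a ∈ t, IsCoprime a PR) → IsCoprime t.prod PR := by
        intro t
        induction t using Multiset.induction with
        | empty => intro _; exact isCoprime_one_left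
        | cons a t ih =>
          intro h
          rw [Multiset.prod_cons]
          exact (h a (by simp)).mul_left (ih fun f hf => h f (Multiset.mem_cons_of_mem hf))
      refine h1 _ fun a ha => ?_
      obtain ⟨has, haP⟩ := Multiset.mem_filter.mp ha
      have h2 : ∀ t : Multiset F[X], (∀ b ∈ t, IsCoprime a b) → IsCoprime a t.prod := by
        intro t
        induction t using Multiset.induction with
        | empty => intro _; exact isCoprime_one_right
        | cons b t ih =>
          intro h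
          rw [Multiset.prod_cons]
          exact (h b (by simp)).mul_right (ih fun f hf => h f (Multiset.mem_cons_of_mem hf))
      refine h2 _ fun b hb => ?_
      obtain ⟨hbs, hbP⟩ := Multiset.mem_filter.mp hb
      refine (hmem a has).1.coprime_iff_not_dvd.mpr fun h => hbP ?_
      rwa [← eq_of_monic_of_associated (hmem a has).2.1 (hmem b hbs).2.1 ((hmem a has).1.associated_of_dvd (hmem b hbs).1 h)]
    obtain ⟨u, v, huv⟩ := hcop
    set E := aeval g (u * PS) with hE
    have hE1 : 1 - E = aeval g (v * PR) := by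
      rw [sub_eq_iff_eq_add, hE, ← map_add, add_comm, huv, map_one]
    have hz : ∀ A B : F[X], aeval g (A * (g.charpoly * B)) = 0 := by
      intro A B
      rw [map_mul, map_mul, Matrix.aeval_self_charpoly, zero_mul, mul_zero]
    obtain ⟨TS, hTS⟩ := aeval_stable σ g hU PS (by rw [hPS]; convert hsPS)
    obtain ⟨TR, hTR⟩ := aeval_stable σ g hU PR (by rw [hPR]; convert hsPR)
    have hA : adj σ (1 - E) * E = 0 := by
      rw [hE1, mul_comm v PR, map_mul, adj_mul, hTR, hE, mul_assoc, mul_assoc, ← map_mul,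
        show PR * (u * PS) = 1 * (g.charpoly * u) by rw [← hSR]; ring, hz, mul_zero, mul_zero]
    have hB : adj σ E * (1 - E) = 0 := by
      rw [hE1, hE, mul_comm u PS, map_mul, adj_mul, hTS, mul_assoc, mul_assoc, ← map_mul,
        show PS * (v * PR) = 1 * (g.charpoly * v) by rw [← hSR]; ring, hz, mul_zero, mul_zero]
    have hadj1 : adj σ (1 - E) = 1 - adj σ E := by
      ext i j
      simp [adj, Matrix.one_apply, eq_comm, apply_ite σ]
    rw [hadj1, sub_mul, one_mul, sub_eq_zero] at hA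
    rw [mul_sub, mul_one, sub_eq_zero] at hB
    refine ⟨E, ?_, hB.trans hA.symm, ?_, ?_, ?_⟩
    · have h3 : E * (1 - E) = 0 := by
        rw [hE1, hE, ← map_mul, show u * PS * (v * PR) = u * (g.charpoly * v) by rw [← hSR]; ring, hz]
      rw [mul_sub, mul_one, sub_eq_zero] at h3
      exact h3.symm
    · intro h
      have hf₂R : f₂ ∣ PR := Multiset.dvd_prod (Multiset.mem_filter.mpr ⟨hf₂, fun h' => h'.elim hf₂0 hf₂1⟩)
      have hi2 := (hmem f₂ hf₂).1
      have h1 := CfsgLib.GLOrders.irreducible_dvd_of_dvd_charpoly g hi2 (dvd_of_mem_normalizedFactors hf₂) h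
      refine hi2.not_isUnit (isUnit_of_dvd_one ?_)
      rw [← huv]
      exact dvd_add h1 (hf₂R.mul_left v)
    · intro h
      have hf₀S : f₀ ∣ PS := Multiset.dvd_prod (Multiset.mem_filter.mpr ⟨hf₀, Or.inl rfl⟩)
      rw [h, sub_self] at hE1
      have h1 := CfsgLib.GLOrders.irreducible_dvd_of_dvd_charpoly g hi (dvd_of_mem_normalizedFactors hf₀) hE1.symm
      refine hi.not_isUnit (isUnit_of_dvd_one ?_)
      rw [← huv]
      exact dvd_add (hf₀S.mul_left u) h1
    · rw [hE]
      have h := Commute.map (Commute.all X (u * PS)) (aeval g : F[X] →ₐ[F] Matrix (Fin n) (Fin n) F)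
      rw [aeval_X] at h
      exact h

/-- The torus element of order `r` attached to a self-adjoint idempotent. -/
theorem exists_of_idempotent [Fintype F] (q : ℕ) (hF : Fintype.card F = q ^ 2) (σ : F →+* F) (hσ : ∀ x, σ x = x ^ q)
    (hσ2 : ∀ x, σ (σ x) = x) {n : ℕ} (hn : 3 ≤ n) (r : ℕ) (hr : r.Prime) (hrq : r ∣ q + 1) (hrn : ¬ r ∣ n)
    (e : Matrix (Fin n) (Fin n) F) (he : e * e = e) (hadj : adj σ e = e) (h0 : e ≠ 0) (h1 : e ≠ 1) :
    ∃ y : Cfsg.SU n F q, orderOf (y : Cfsg.PSU n F q) = r ∧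
      ∀ g : Cfsg.SU n F q, ((g : Matrix.SpecialLinearGroup (Fin n) F) : Matrix (Fin n) (Fin n) F) * e =
        e * ((g : Matrix.SpecialLinearGroup (Fin n) F) : Matrix (Fin n) (Fin n) F) → Commute g y := by
  classical
  have : Fact r.Prime := ⟨hr⟩
  obtain ⟨a, b, ha, hb, hab, hdet⟩ := CfsgLib.GLOrders.det_idempotent e he h0 h1
  have hrQ : r ∣ Fintype.card F - 1 := by
    rw [hF]
    exact hrq.trans ⟨q - 1, by rw [← Nat.sq_sub_sq, one_pow]⟩
  obtain ⟨ζ, hζ⟩ := exists_prime_orderOf_dvd_card' (G := Fˣ) r (by rw [Nat.card_units, Nat.card_eq_fintype_card]; exact hrQ)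
  obtain ⟨d, hd⟩ : ∃ d : Fˣ, d = ζ ^ b := ⟨_, rfl⟩
  obtain ⟨c, hc⟩ : ∃ c : Fˣ, c = ζ⁻¹ ^ a := ⟨_, rfl⟩
  have hζr : ζ ^ r = 1 := hζ ▸ pow_orderOf_eq_one ζ
  have hdr : d ^ r = 1 := by rw [hd, ← pow_mul, mul_comm, pow_mul, hζr, one_pow]
  have hcr : c ^ r = 1 := by rw [hc, ← pow_mul, mul_comm, pow_mul, inv_pow, hζr, inv_one, one_pow]
  have hnorm : ∀ x : Fˣ, x ^ r = 1 → σ (x : F) * x = 1 := by
    intro x hx
    obtain ⟨k, hk⟩ := hrq
    rw [hσ, ← pow_succ, ← Units.val_pow_eq_pow_val, hk, pow_mul, hx, one_pow, Units.val_one]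
  have hprod : d ^ a * c ^ b = 1 := by
    rw [hd, hc, ← pow_mul, ← pow_mul, mul_comm b a, inv_pow, mul_inv_cancel]
  have hne : c ≠ d := by
    intro h
    rw [hc, hd, inv_pow, inv_eq_iff_mul_eq_one, ← pow_add] at h
    exact hrn (hab ▸ hζ ▸ orderOf_dvd_of_pow_eq_one h)
  have hD : (((d : F) • (1 : Matrix (Fin n) (Fin n) F) + ((c : F) - d) • e)).det = 1 := by
    rw [hdet, ← Units.val_pow_eq_pow_val, ← Units.val_pow_eq_pow_val, ← Units.val_mul, hprod, Units.val_one]
  set M := (d : F) • (1 : Matrix (Fin n) (Fin n) F) + ((c : F) - d) • e with hM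
  have hUM : IsU σ M := by
    show adj σ M * M = 1
    have hadjM : adj σ M = σ (d : F) • (1 : Matrix (Fin n) (Fin n) F) + (σ (c : F) - σ (d : F)) • e := by
      have hadd : ∀ A B : Matrix (Fin n) (Fin n) F, adj σ (A + B) = adj σ A + adj σ B := fun A B => by
        ext i j; simp [adj]
      rw [hM, hadd, adj_smul, adj_smul, adj_one, hadj, map_sub]
    have e1 := hnorm d hdr
    have e2 := hnorm c hcr
    rw [hadjM, hM]
    simp only [add_mul, mul_add, Matrix.smul_mul, Matrix.mul_smul, Matrix.one_mul, Matrix.mul_one, he, smul_smul]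
    calc _ = (σ (d : F) * d) • (1 : Matrix (Fin n) (Fin n) F) + (σ (c : F) * c - σ (d : F) * d) • e := by module
      _ = 1 := by rw [e1, e2, sub_self, zero_smul, add_zero, one_smul]
  obtain ⟨y, hy⟩ := exists_SU σ q hσ hσ2 M hD hUM
  have hpow : ∀ k : ℕ, M ^ k =
      ((d : F) ^ k) • (1 : Matrix (Fin n) (Fin n) F) + ((c : F) ^ k - (d : F) ^ k) • e := by
    intro k
    induction k with
    | zero => simp
    | succ k ih =>
      rw [pow_succ, ih, hM]
      simp only [add_mul, mul_add, Matrix.smul_mul, Matrix.mul_smul, Matrix.one_mul, Matrix.mul_one, he, smul_smul, pow_succ]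
      module
  refine ⟨y, orderOf_eq_prime ?_ ?_, fun g hg => ?_⟩
  · refine (mk_pow_eq_one_iff q hF hn y r).mpr ⟨1, ?_⟩
    rw [hy, hpow, ← Units.val_pow_eq_pow_val, ← Units.val_pow_eq_pow_val, hdr, hcr, sub_self, zero_smul, add_zero, Units.val_one]
  · intro h
    obtain ⟨t, ht⟩ := (mk_pow_eq_one_iff q hF hn y 1).mp (by rw [pow_one]; exact h)
    rw [hy, pow_one, hM] at ht
    have ht' : ((c : F) - d) • e = (t - (d : F)) • (1 : Matrix (Fin n) (Fin n) F) := by
      rw [sub_smul t, ← ht]; abel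
    have hcd : (c : F) - d ≠ 0 := sub_ne_zero.mpr fun h' => hne (Units.ext h')
    have h2 : e = (((c : F) - d)⁻¹ * (t - d)) • (1 : Matrix (Fin n) (Fin n) F) := by
      rw [← smul_smul, ← ht', smul_smul, inv_mul_cancel₀ hcd, one_smul]
    set u := ((c : F) - d)⁻¹ * (t - d)
    rw [h2, smul_mul_smul_comm, one_mul] at he
    have : Nonempty (Fin n) := ⟨⟨0, by omega⟩⟩
    have hu : u * u = u := by
      have := congrFun (congrFun he (Classical.arbitrary _)) (Classical.arbitrary _)
      simpa using this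
    rcases eq_or_ne u 0 with hu0 | hu0
    · exact h0 (by rw [h2, hu0, zero_smul])
    · exact h1 (by rw [h2, mul_right_eq_self₀.mp hu |>.resolve_right hu0, one_smul])
  · apply Subtype.ext
    apply Subtype.ext
    show _ * _ = _ * _
    rw [hy, hM]
    simp only [mul_add, add_mul, Matrix.smul_mul, Matrix.mul_smul, Matrix.one_mul, Matrix.mul_one, hg]

/-- The dichotomy for `PSU_n(q)`. -/
theorem order_dichotomy [Fintype F] (q : ℕ) (hF : Fintype.card F = q ^ 2) {n : ℕ} (hn : 3 ≤ n) (r : ℕ) (hr : r.Prime)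
    (hrq : r ∣ q + 1) (hrn : ¬ r ∣ n) (p e : ℕ) [Fact p.Prime] [CharP F p] (hqe : q = p ^ e) (a : ℕ) (ha : n ≤ p ^ a)
    (x : Cfsg.PSU n F q) : orderOf x ∣ uM q n * p ^ a ∨ ∃ y : Cfsg.PSU n F q, Commute x y ∧ orderOf y = r := by
  classical
  obtain ⟨σ, hσ, hσ2, hσne, hq2⟩ := exists_conj q hF
  obtain ⟨s, rfl⟩ := QuotientGroup.mk_surjective x
  set g := ((s : Matrix.SpecialLinearGroup (Fin n) F) : Matrix (Fin n) (Fin n) F) with hg
  have hU : IsU σ g := (mem_SU_iff σ q hσ hσ2 _).mp s.2
  rcases idempotent_or_dvd q hF σ hσ hσ2 p e hqe hq2 (by omega) g hU (s : Matrix.SpecialLinearGroup (Fin n) F).2 with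
    ⟨E, h1, h2, h3, h4, h5⟩ | ⟨f₀, hf₀, hdvd, hall⟩
  · right
    obtain ⟨y, hy, hc⟩ := exists_of_idempotent q hF σ hσ hσ2 hn r hr hrq hrn E h1 h2 h3 h4
    exact ⟨(y : Cfsg.PSU n F q), (hc s h5).map (QuotientGroup.mk' (Subgroup.center (Cfsg.SU n F q))), hy⟩
  · left
    obtain ⟨hmem, hprod, hdeg, -, -⟩ := factors_spec σ hσ2 g hU
    set ν := Nat.gcd n (q + 1) with hν
    have hν0 : 0 < ν := Nat.gcd_pos_of_pos_right _ (by omega)
    obtain ⟨ξ, hξ⟩ : ∃ ξ : F, IsPrimitiveRoot ξ ν := by
      obtain ⟨w, hw⟩ := IsCyclic.exists_generator (α := Fˣ)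
      have hwo : orderOf w = q ^ 2 - 1 := by
        rw [orderOf_eq_card_of_forall_mem_zpowers hw, Nat.card_units, Nat.card_eq_fintype_card, hF]
      have hd : ν ∣ q ^ 2 - 1 := (Nat.gcd_dvd_right n (q + 1)).trans ⟨q - 1, by rw [← Nat.sq_sub_sq, one_pow]⟩
      have hpos : 0 < q ^ 2 - 1 := hwo ▸ orderOf_pos w
      have h1 : IsPrimitiveRoot w (q ^ 2 - 1) := hwo ▸ IsPrimitiveRoot.orderOf w
      have h2 := h1.pow hpos (Nat.div_mul_cancel hd).symm
      exact ⟨_, h2.map_of_injective (f := Units.coeHom F) Units.val_injective⟩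
    obtain ⟨ζ, hζ, hζd⟩ : ∃ ζ : F, ζ ^ ν = 1 ∧ f₀ ∣ X ^ uM q n - C ζ := by
      rw [← uM_mul q n, mul_comm, pow_mul] at hdvd
      have h1 : ((X : F[X]) ^ uM q n) ^ ν - 1 = ∏ ζ ∈ nthRootsFinset ν (1 : F), (X ^ uM q n - C ζ) := by
        have h2 := congrArg (fun P : F[X] => P.comp (X ^ uM q n)) (X_pow_sub_one_eq_prod hν0 hξ)
        simpa [Polynomial.prod_comp] using h2
      rw [h1] at hdvd
      obtain ⟨ζ, hζ, hd⟩ := (hmem f₀ hf₀).1.prime.exists_mem_finset_dvd hdvd
      exact ⟨ζ, (mem_nthRootsFinset hν0 (1 : F)).mp hζ, hd⟩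
    have hζ1 : σ ζ * ζ = 1 := by
      obtain ⟨k, hk⟩ := Nat.gcd_dvd_right n (q + 1)
      rw [hσ, ← pow_succ, hk, pow_mul, hζ, one_pow]
    have hall' : ∀ f ∈ normalizedFactors g.charpoly, f ∣ X ^ uM q n - C ζ := by
      intro f hf
      rcases hall f hf with rfl | rfl
      · exact hζd
      · have h1 : f₀.map σ ∣ X ^ uM q n - C (σ ζ) := by
          have := Polynomial.map_dvd σ hζd
          simpa using this
        have h2 := star_dvd' ((Polynomial.map_ne_zero_iff σ.injective).mpr (hmem f₀ hf₀).1.ne_zero)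
          (fun h => by rw [h, zero_mul] at hζ1; exact zero_ne_one hζ1) h1
        rwa [inv_eq_of_mul_eq_one_right hζ1] at h2
    have hcount : ∀ f ∈ normalizedFactors g.charpoly, (normalizedFactors g.charpoly).count f ≤ n := by
      intro f hf
      have h1 : Multiset.card (normalizedFactors g.charpoly) ≤ n := by
        conv_rhs => rw [← hdeg]
        have h2 : ∀ t : Multiset F[X], (∀ f ∈ t, 1 ≤ f.natDegree) → Multiset.card t ≤ (t.map natDegree).sum := by
          intro t ht
          have := Multiset.card_nsmul_le_sum (s := t.map natDegree) (a := 1) (by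
            intro x hx
            obtain ⟨f, hf, rfl⟩ := Multiset.mem_map.mp hx
            exact ht f hf)
          simpa using this
        exact h2 _ fun f hf => (hmem f hf).1.natDegree_pos
      exact (Multiset.count_le_card _ _).trans h1
    have : Nonempty (Fin n) := ⟨⟨0, by omega⟩⟩
    have hpow := CfsgLib.GLOrders.pow_eq_scalar_of_factors p g (uM q n) n a ζ ha hall' hcount
    exact orderOf_dvd_of_pow_eq_one ((mk_pow_eq_one_iff q hF hn s _).mpr ⟨_, hpow⟩)

end CfsgLib.Unitary
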